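import Cfsg.Agent.H394.Wei.CharG2

/-!
# `G_2(q)`, class 3, the same characteristic `p ≠ 3` (helper394)

`charp_g2_3` : the simple groups of Lie type in characteristic `p` whose order divides `|G_2(q)|`, `q = p ^ f ≥ 5`, and is
divisible by the primitive primes of `q ^ 3 - 1`.
-/

set_option autoImplicit false

namespace Cfsg.Agent.H394.Wei

open Cfsg.Agent.OrdDiv Cfsg.Agent.H436 Cfsg.Agent.H915.GN Cfsg.Agent.H264.GN Cfsg.Agent.H264.FKS Cfsg.Agent.H325.Same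

variable {p f c : ℕ} {g : Grp}

/-! ### arithmetic -/

theorem sq_sub (X : ℕ) : X ^ 2 - 1 = (X + 1) * (X - 1) := by
  have := Nat.sq_sub_sq X 1
  rwa [one_pow] at this

theorem three_dvd_sq {Q : ℕ} (h : ¬ 3 ∣ Q) : 3 ∣ Q ^ 2 - 1 := by
  have h1 : Q % 3 = 1 ∨ Q % 3 = 2 := by omega
  have h2 : Q ^ 2 % 3 = 1 := by
    rw [Nat.pow_mod]
    rcases h1 with h1 | h1 <;> rw [h1]
  omega

theorem three_not_dvd_add {Q : ℕ} (h : ¬ 3 ∣ Q) (j : ℕ) : ¬ 3 ∣ Q ^ (2 * j) + 1 := by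
  have h1 := three_dvd_sq h
  have h2 : 3 ∣ (Q ^ 2) ^ j - 1 := h1.trans (Nat.sub_one_dvd_pow_sub_one _ _)
  rw [← pow_mul] at h2
  have h3 : 0 < Q ^ (2 * j) := Nat.pow_pos (Nat.pos_of_ne_zero (by rintro rfl; exact h (dvd_zero 3)))
  omega

theorem kill_C2 {y D : ℕ} (hy : 2 ≤ y) (h1 : D * c = (y ^ 3) ^ 4 * (((y ^ 3) ^ 2 - 1) * ((y ^ 3) ^ 4 - 1))) (hD : D ∣ 2)
    (hc : 0 < c) (h2 : c ∣ (y ^ 4) ^ 6 * (((y ^ 4) ^ 2 - 1) * ((y ^ 4) ^ 6 - 1))) : False := by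
  obtain ⟨t, ht⟩ := exists_prim (q := y) (e := 3) hy (by norm_num) (by omega)
  have e1 : (y ^ 4) ^ 6 - 1 = ((y ^ 3) ^ 4 + 1) * ((y ^ 3) ^ 4 - 1) := by
    rw [← sq_sub]
    congr 1
    ring
  have hZ : 0 < (y ^ 3) ^ 4 - 1 := by
    have h3 : 1 < y ^ 12 := Nat.one_lt_pow (by norm_num) (by omega)
    have h4 : (y ^ 3) ^ 4 = y ^ 12 := by ring
    omega
  refine cancel_prime ht.prime hZ hc (D := D) (A := (y ^ 3) ^ 4) (x := (y ^ 3) ^ 2 - 1) (B := (y ^ 4) ^ 6)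
    (y := ((y ^ 4) ^ 2 - 1) * ((y ^ 3) ^ 4 + 1)) h1 ?_ ?_ (fun h => ht.not_dvd_two le_rfl (h.trans hD))
    (fun h => ht.not_dvd_pow _ (by rwa [← pow_mul] at h)) (fun h => ?_)
  · rw [e1] at h2
    exact h2.trans (dvd_of_eq (by ring))
  · rw [← pow_mul]
    exact ht.dvd (by norm_num)
  · rcases ht.prime.dvd_mul.1 h with h | h
    · rw [← pow_mul] at h
      exact ht.not_dvd_sub (by norm_num) h
    · rw [← pow_mul] at h
      exact not_dvd_add_odd ht rfl (by norm_num) _ h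

theorem kill_C3 {Q D A x : ℕ} (hQ : 2 ≤ Q) (h3 : ¬ 3 ∣ Q) (hx : 3 ∣ x) (h1 : D * c = A * (x * ((Q ^ 4 - 1) * (Q ^ 6 - 1))))
    (hD : D ∣ 4) (hc : 0 < c) (h2 : c ∣ (Q ^ 2) ^ 6 * (((Q ^ 2) ^ 2 - 1) * ((Q ^ 2) ^ 6 - 1))) : False := by
  have e1 : (Q ^ 2) ^ 6 - 1 = (Q ^ 6 + 1) * (Q ^ 6 - 1) := by
    rw [← sq_sub]
    congr 1
    ring
  have e2 : (Q ^ 2) ^ 2 - 1 = Q ^ 4 - 1 := by rw [← pow_mul]
  have b4 := sub_pos' (d := 4) hQ (by norm_num)
  have b6 := sub_pos' (d := 6) hQ (by norm_num)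
  rw [e1, e2] at h2
  refine cancel_prime Nat.prime_three (Z := (Q ^ 4 - 1) * (Q ^ 6 - 1)) (by positivity) hc (D := D) (A := A) (x := x)
    (B := (Q ^ 2) ^ 6) (y := Q ^ 6 + 1) h1 (h2.trans (dvd_of_eq (by ring))) hx (fun h => ?_) (fun h => ?_) ?_
  · have := h.trans hD
    revert this
    norm_num
  · rw [← pow_mul] at h
    exact h3 (Nat.prime_three.dvd_of_dvd_pow h)
  · exact three_not_dvd_add h3 3

theorem kill_F4 {Q : ℕ} (hQ : 2 ≤ Q) (h3 : ¬ 3 ∣ Q)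
    (h1 : 1 * c = Q ^ 24 * ((Q ^ 2 - 1) * (Q ^ 6 - 1) * (Q ^ 8 - 1) * (Q ^ 12 - 1))) (hc : 0 < c)
    (h2 : c ∣ (Q ^ 4) ^ 6 * (((Q ^ 4) ^ 2 - 1) * ((Q ^ 4) ^ 6 - 1))) : False := by
  have e1 : (Q ^ 4) ^ 6 - 1 = (Q ^ 12 + 1) * (Q ^ 12 - 1) := by
    rw [← sq_sub]
    congr 1
    ring
  have e2 : (Q ^ 4) ^ 2 - 1 = Q ^ 8 - 1 := by rw [← pow_mul]
  have b8 := sub_pos' (d := 8) hQ (by norm_num)
  have b12 := sub_pos' (d := 12) hQ (by norm_num)
  rw [e1, e2] at h2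
  refine cancel_prime Nat.prime_three (Z := (Q ^ 8 - 1) * (Q ^ 12 - 1)) (by positivity) hc (D := 1) (A := Q ^ 24)
    (x := (Q ^ 2 - 1) * (Q ^ 6 - 1)) (B := (Q ^ 4) ^ 6) (y := Q ^ 12 + 1) (by rw [h1]; ring)
    (h2.trans (dvd_of_eq (by ring))) ((three_dvd_sq h3).mul_right _) (fun h => ?_) (fun h => ?_) ?_
  · revert h
    norm_num
  · rw [← pow_mul] at h
    exact h3 (Nat.prime_three.dvd_of_dvd_pow h)
  · exact three_not_dvd_add h3 6

theorem kill_TD4' {Q : ℕ} (hQ : 2 ≤ Q)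
    (h1 : 1 * c = Q ^ 12 * ((Q ^ 2 - 1) * (Q ^ 6 - 1) * (Q ^ 8 + Q ^ 4 + 1))) (hc : 0 < c)
    (h2 : c ∣ (Q ^ 4) ^ 6 * (((Q ^ 4) ^ 2 - 1) * ((Q ^ 4) ^ 6 - 1))) : False := by
  obtain ⟨t, ht⟩ := exists_prim (q := Q) (e := 3) hQ (by norm_num) (by omega)
  have e1 : (Q ^ 4) ^ 6 - 1 = (Q ^ 12 + 1) * (Q ^ 12 - 1) := by
    rw [← sq_sub]
    congr 1
    ring
  have e3 : Q ^ 12 - 1 = (Q ^ 8 + Q ^ 4 + 1) * (Q ^ 4 - 1) := by
    have h3 : 1 ≤ Q ^ 4 := Nat.one_le_pow _ _ (by omega)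
    obtain ⟨a, ha⟩ : ∃ a, Q ^ 4 = a + 1 := ⟨Q ^ 4 - 1, by omega⟩
    have h10 : Q ^ 12 = (a + 1) ^ 3 := by rw [← ha]; ring
    have h11 : Q ^ 8 = (a + 1) ^ 2 := by rw [← ha]; ring
    rw [h10, h11, ha, Nat.add_sub_cancel]
    have : (a + 1) ^ 3 = ((a + 1) ^ 2 + (a + 1) + 1) * a + 1 := by ring
    omega
  have e2 : (Q ^ 4) ^ 2 - 1 = Q ^ 8 - 1 := by rw [← pow_mul]
  have b2 := sub_pos' (d := 2) hQ (by norm_num)
  rw [e1, e2, e3] at h2
  refine cancel_prime ht.prime (Z := Q ^ 8 + Q ^ 4 + 1) (by positivity) hc (D := 1) (A := Q ^ 12)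
    (x := (Q ^ 2 - 1) * (Q ^ 6 - 1)) (B := (Q ^ 4) ^ 6) (y := (Q ^ 8 - 1) * ((Q ^ 12 + 1) * (Q ^ 4 - 1)))
    (by rw [h1]) (h2.trans (dvd_of_eq (by ring))) ((ht.dvd (by norm_num)).mul_left _)
    (fun h => ht.prime.one_lt.ne' (Nat.dvd_one.1 h)) (fun h => ?_) fun h => ?_
  · rw [← pow_mul] at h
    exact ht.not_dvd_pow _ h
  · rcases ht.prime.dvd_mul.1 h with h | h
    · exact ht.not_dvd_sub (by norm_num) h
    rcases ht.prime.dvd_mul.1 h with h | h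
    · exact not_dvd_add_odd ht rfl (by norm_num) _ h
    · exact ht.not_dvd_sub (by norm_num) h

theorem prB_two (Q : ℕ) : prB Q 2 = (Q ^ 2 - 1) * (Q ^ 4 - 1) := by
  rw [prB_eq, Finset.prod_range_succ, Finset.prod_range_succ, Finset.prod_range_zero]
  norm_num only [one_mul]

theorem prB_three (Q : ℕ) : prB Q 3 = (Q ^ 2 - 1) * ((Q ^ 4 - 1) * (Q ^ 6 - 1)) := by
  rw [prB_eq, Finset.prod_range_succ, Finset.prod_range_succ, Finset.prod_range_succ, Finset.prod_range_zero]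
  norm_num only [one_mul, mul_assoc]

/-- a primitive prime of order 3 over `Q` has order 3 over `Q²` and `Q⁴` -/
theorem prim3_pow {Q k r : ℕ} (hk : k = 2 ∨ k = 4) (h : Prim Q 3 r) : Prim (Q ^ k) 3 r := by
  have h1 := Cfsg.Agent.H425.Chr.prim_quot (f := k) (by omega) h
  have h2 : 3 / Nat.gcd 3 k = 3 := by
    rcases hk with rfl | rfl <;> norm_num
  rwa [h2] at h1

/-! ### the second case -/

/-- the top exponent is `3 f` -/
theorem charp_g2_3b (hp : p.Prime) (hp3 : p ≠ 3) (hf : 1 ≤ f) (hg : Cond g) (hch : HasChar p g)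
    (hc : den g * c = num g) (hdvd : c ∣ num (.g2 (p ^ f))) (hs3 : ∀ s, Prim (p ^ f) 3 s → s ∣ c) {f₁ : ℕ} (hf₁ : 1 ≤ f₁)
    (hfl : fld g = p ^ f₁) (hfM : f₁ * Mg g = f * 3) (ha : 2 * ag g ≤ 4 * Mg g)
    (hYc : ∀ e, Yg g e → 3 ≤ f₁ * e → ¬ (p = 2 ∧ f₁ * e = 6) → e ∣ 2 * Mg g) :
    g = .psl 3 (p ^ f) ∨ (∃ h, f = 2 * h ∧ (g = .psl 2 (p ^ (3 * h)) ∨ g = .g2 (p ^ h))) ∨
      (p = 2 ∧ f = 4 ∧ g = .sz 8) := by
  have hq : 2 ≤ p ^ f := hp.two_le.trans (Nat.le_self_pow (by omega) _)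
  have hQ : 2 ≤ p ^ f₁ := hp.two_le.trans (Nat.le_self_pow (by omega) _)
  have b2 := sub_pos' (d := 2) hq (by norm_num)
  have b6 := sub_pos' (d := 6) hq (by norm_num)
  have hd : c ∣ (p ^ f) ^ 6 * (((p ^ f) ^ 2 - 1) * ((p ^ f) ^ 6 - 1)) := hdvd
  have hc0 : 0 < c := pos_of_dvd (by positivity) hd
  have h3Q : ¬ 3 ∣ p ^ f₁ := fun h => hp3 ((Nat.prime_dvd_prime_iff_eq Nat.prime_three hp).1
    (Nat.prime_three.dvd_of_dvd_pow h)).symm
  obtain ⟨t, ht⟩ := exists_prim (q := p ^ f₁) (e := 3) hQ (by norm_num) (by omega)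
  cases g
  case psl m q =>
    obtain ⟨hm, -, -⟩ := hg
    have hb : m ≤ 4 + 1 := bd_psl (ρ := 4) (by omega) ha
    obtain rfl : q = p ^ f₁ := hfl
    have h5 : f₁ * m = f * 3 := hfM
    have hY' : ∀ e, 2 ≤ e → e ≤ m → 3 ≤ f₁ * e → ¬ (p = 2 ∧ f₁ * e = 6) → e ∣ 2 * m := fun e h1 h2 => hYc e ⟨h1, h2⟩
    obtain ⟨hm2, hm5⟩ : 2 ≤ m ∧ m ≤ 5 := ⟨by omega, by omega⟩
    interval_cases m
    · right; left
      obtain ⟨h, rfl⟩ : ∃ h, f = 2 * h := ⟨f / 2, by omega⟩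
      obtain rfl : f₁ = 3 * h := by omega
      exact ⟨h, rfl, Or.inl rfl⟩
    · left
      obtain rfl : f₁ = f := by omega
      rfl
    · exfalso
      have := hY' 3 (by norm_num) (by norm_num) (by omega) (by omega)
      omega
    · exfalso
      have := hY' 4 (by norm_num) (by norm_num) (by omega) (by omega)
      omega
  case psp m q =>
    exfalso
    obtain ⟨hm, -, -⟩ := hg
    have hb := bd_psp (ρ := 4) (by omega) ha
    obtain rfl : q = p ^ f₁ := hfl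
    have h5 : f₁ * (2 * m) = f * 3 := hfM
    have hY' : ∀ e, 1 ≤ e → e ≤ 2 * m → 2 ∣ e → 3 ≤ f₁ * e → ¬ (p = 2 ∧ f₁ * e = 6) → e ∣ 2 * (2 * m) :=
      fun e h1 h2 h3 => hYc e ⟨h1, h2, h3⟩
    have h6 : Nat.gcd 2 (p ^ f₁ - 1) * c = (p ^ f₁) ^ (m ^ 2) * prB (p ^ f₁) m := hc
    obtain ⟨hm2, hm5⟩ : 2 ≤ m ∧ m ≤ 4 := ⟨by omega, by omega⟩
    interval_cases m
    · obtain ⟨h, rfl⟩ : ∃ h, f = 4 * h := ⟨f / 4, by omega⟩
      obtain rfl : f₁ = 3 * h := by omega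
      have h1 : p ^ (3 * h) = (p ^ h) ^ 3 := by rw [mul_comm, pow_mul]
      have h2 : p ^ (4 * h) = (p ^ h) ^ 4 := by rw [mul_comm, pow_mul]
      rw [prB_two] at h6
      have h7 : Nat.gcd 2 (p ^ (3 * h) - 1) ∣ 2 := Nat.gcd_dvd_left _ _
      rw [h1] at h6 h7
      rw [h2] at hd
      exact kill_C2 (hp.two_le.trans (Nat.le_self_pow (by omega) _)) h6 h7 hc0 hd
    · obtain rfl : f = 2 * f₁ := by omega
      have h2 : p ^ (2 * f₁) = (p ^ f₁) ^ 2 := by rw [mul_comm, pow_mul]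
      rw [h2] at hd
      rw [prB_three] at h6
      exact kill_C3 hQ h3Q (three_dvd_sq h3Q) h6 ((Nat.gcd_dvd_left _ _).trans (by norm_num)) hc0 hd
    · have := hY' 6 (by norm_num) (by norm_num) (by norm_num) (by omega) (by omega)
      omega
  case psu m q =>
    exfalso
    obtain ⟨hm, -, -⟩ := hg
    have hb := bd_psu (ρ := 4) hm ha
    obtain rfl : q = p ^ f₁ := hfl
    have h5 : f₁ * (2 * (if m % 2 = 0 then m - 1 else m)) = f * 3 := hfM
    have hY' : ∀ e, (3 ≤ e ∧ ((e ≤ m ∧ e % 2 = 0) ∨ ∃ j, e = 2 * j ∧ j ≤ m ∧ j % 2 = 1)) → 3 ≤ f₁ * e →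
      ¬ (p = 2 ∧ f₁ * e = 6) → e ∣ 2 * (2 * (if m % 2 = 0 then m - 1 else m)) := fun e h1 => hYc e h1
    have ku : ∀ {n : ℕ}, n < 2 * 3 → f = f₁ * 2 → ∀ a, c ∣ (p ^ f₁) ^ a * prU (p ^ f₁) n → False := by
      intro n hn hf2 a hca
      refine not_dvd_u (e := 3) ht rfl (by norm_num) hn a ((hs3 t ?_).trans hca)
      have := prim3_pow (Or.inl rfl) ht
      rwa [← pow_mul, ← hf2] at this
    obtain ⟨hm2, hm5⟩ : 3 ≤ m ∧ m ≤ 9 := ⟨by omega, by omega⟩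
    interval_cases m
    · norm_num at h5
      exact ku (n := 3) (by norm_num) (by omega) (3 * (3 - 1) / 2) (Dvd.intro_left _ hc)
    · norm_num at h5
      exact ku (n := 4) (by norm_num) (by omega) (4 * (4 - 1) / 2) (Dvd.intro_left _ hc)
    · norm_num at h5
      have := hY' 6 ⟨by norm_num, Or.inr ⟨3, by norm_num, by norm_num, by norm_num⟩⟩ (by omega) (by omega)
      norm_num at this
    · norm_num at h5
      have := hY' 6 ⟨by norm_num, Or.inl ⟨by norm_num, by norm_num⟩⟩ (by omega) (by omega)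
      norm_num at this
    · norm_num at h5
      have := hY' 6 ⟨by norm_num, Or.inl ⟨by norm_num, by norm_num⟩⟩ (by omega) (by omega)
      norm_num at this
    · norm_num at h5
      have := hY' 6 ⟨by norm_num, Or.inl ⟨by norm_num, by norm_num⟩⟩ (by omega) (by omega)
      norm_num at this
    · norm_num at h5
      have := hY' 8 ⟨by norm_num, Or.inl ⟨by norm_num, by norm_num⟩⟩ (by omega) (by omega)
      norm_num at this
  case oodd m q =>
    exfalso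
    obtain ⟨hm, -, -⟩ := hg
    have hb := bd_psp (ρ := 4) (by omega) ha
    obtain rfl : q = p ^ f₁ := hfl
    have h5 : f₁ * (2 * m) = f * 3 := hfM
    have hY' : ∀ e, 1 ≤ e → e ≤ 2 * m → 2 ∣ e → 3 ≤ f₁ * e → ¬ (p = 2 ∧ f₁ * e = 6) → e ∣ 2 * (2 * m) :=
      fun e h1 h2 h3 => hYc e ⟨h1, h2, h3⟩
    have h6 : 2 * c = (p ^ f₁) ^ (m ^ 2) * prB (p ^ f₁) m := hc
    obtain ⟨hm2, hm5⟩ : 3 ≤ m ∧ m ≤ 4 := ⟨by omega, by omega⟩
    interval_cases m
    · obtain rfl : f = 2 * f₁ := by omega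
      have h2 : p ^ (2 * f₁) = (p ^ f₁) ^ 2 := by rw [mul_comm, pow_mul]
      rw [h2] at hd
      rw [prB_three] at h6
      exact kill_C3 hQ h3Q (three_dvd_sq h3Q) h6 (by norm_num) hc0 hd
    · have := hY' 6 (by norm_num) (by norm_num) (by norm_num) (by omega) (by omega)
      omega
  case oplus m q =>
    exfalso
    obtain ⟨hm, -⟩ := hg
    have hb := bd_oplus (ρ := 4) (by omega) ha
    obtain rfl : q = p ^ f₁ := hfl
    obtain rfl : m = 4 := by omega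
    have h5 : f₁ * (2 * (4 - 1)) = f * 3 := hfM
    obtain rfl : f = 2 * f₁ := by omega
    have h6 : Nat.gcd 4 ((p ^ f₁) ^ 4 - 1) * c = (p ^ f₁) ^ (4 * (4 - 1)) * (((p ^ f₁) ^ 4 - 1) * prB (p ^ f₁) (4 - 1)) := hc
    have h2 : p ^ (2 * f₁) = (p ^ f₁) ^ 2 := by rw [mul_comm, pow_mul]
    rw [h2] at hd
    norm_num only [prB_three] at h6
    refine kill_C3 hQ h3Q (x := ((p ^ f₁) ^ 4 - 1) * ((p ^ f₁) ^ 2 - 1)) ((three_dvd_sq h3Q).mul_left _)
      (D := Nat.gcd 4 ((p ^ f₁) ^ 4 - 1)) (A := (p ^ f₁) ^ 12) ?_ (Nat.gcd_dvd_left _ _) hc0 hd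
    rw [h6]
    ring
  case ominus m q =>
    exfalso
    obtain ⟨hm, -⟩ := hg
    have hb := bd_ominus (ρ := 4) (by omega) ha
    obtain rfl : q = p ^ f₁ := hfl
    have h5 : f₁ * (2 * m) = f * 3 := hfM
    have hY' : ∀ e, 4 ≤ e → e ≤ 2 * m → 2 ∣ e → 3 ≤ f₁ * e → ¬ (p = 2 ∧ f₁ * e = 6) → e ∣ 2 * (2 * m) :=
      fun e h1 h2 h3 => hYc e ⟨h1, h2, h3⟩
    obtain ⟨hm2, hm5⟩ : 4 ≤ m ∧ m ≤ 5 := ⟨by omega, by omega⟩
    interval_cases m
    · have := hY' 6 (by norm_num) (by norm_num) (by norm_num) (by omega) (by omega)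
      omega
    · have := hY' 6 (by norm_num) (by norm_num) (by norm_num) (by omega) (by omega)
      omega
  case g2 q =>
    right; left
    obtain rfl : q = p ^ f₁ := hfl
    have h5 : f₁ * 6 = f * 3 := hfM
    exact ⟨f₁, by omega, Or.inr rfl⟩
  case f4 q =>
    exfalso
    obtain rfl : q = p ^ f₁ := hfl
    have h5 : f₁ * 12 = f * 3 := hfM
    obtain rfl : f = 4 * f₁ := by omega
    have h2 : p ^ (4 * f₁) = (p ^ f₁) ^ 4 := by rw [mul_comm, pow_mul]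
    rw [h2] at hd
    exact kill_F4 hQ h3Q hc hc0 hd
  case e6 q =>
    have h : 2 * 36 ≤ 4 * 12 := ha
    omega
  case e7 q =>
    have h : 2 * 63 ≤ 4 * 18 := ha
    omega
  case e8 q =>
    have h : 2 * 120 ≤ 4 * 30 := ha
    omega
  case te6 q =>
    exfalso
    obtain rfl : q = p ^ f₁ := hfl
    have h5 : f₁ * 18 = f * 3 := hfM
    have h6 : 10 ∣ 2 * 18 := hYc 10 (show (10 : ℕ) ∈ [2, 3, 4, 6, 8, 10, 12, 18] by simp) (by omega) (by omega)
    omega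
  case td4 q =>
    exfalso
    obtain rfl : q = p ^ f₁ := hfl
    have h5 : f₁ * 12 = f * 3 := hfM
    obtain rfl : f = 4 * f₁ := by omega
    have h2 : p ^ (4 * f₁) = (p ^ f₁) ^ 4 := by rw [mul_comm, pow_mul]
    rw [h2] at hd
    exact kill_TD4' hQ hc hc0 hd
  case sz q =>
    right; right
    obtain rfl : q = p ^ f₁ := hfl
    have h5 : f₁ * 4 = f * 3 := hfM
    obtain ⟨m, hm, hqm⟩ : ∃ m, 1 ≤ m ∧ p ^ f₁ = 2 ^ (2 * m + 1) := hg
    have hp2 : p = 2 := by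
      have h4 : p ∣ 2 ^ (2 * m + 1) := by
        rw [← hqm]
        exact dvd_pow_self p (by omega)
      exact (Nat.prime_dvd_prime_iff_eq hp Nat.prime_two).1 (hp.dvd_of_dvd_pow h4)
    subst hp2
    have hfm : f₁ = 2 * m + 1 := Nat.pow_right_injective (le_refl 2) hqm
    obtain ⟨k, rfl⟩ : ∃ k, f = 4 * k := ⟨f / 4, by omega⟩
    obtain rfl : f₁ = 3 * k := by omega
    by_cases hk1 : k = 1
    · subst hk1
      exact ⟨rfl, rfl, rfl⟩
    · exfalso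
      obtain ⟨r, hr⟩ := exists_prim (q := 2) (e := k * 6) le_rfl (by omega) (by omega)
      have hr6 : Prim (2 ^ k) 6 r := prim_pow (by omega) hr
      have hr3 : Prim (2 ^ (4 * k)) 3 r := by
        have h1 := Cfsg.Agent.H425.Chr.prim_quot (f := 4) (by norm_num) hr6
        rw [← pow_mul, mul_comm k 4] at h1
        exact h1
      have h6 := hs3 r hr3
      have h7 : 1 * c = (2 ^ (3 * k)) ^ 2 * ((2 ^ (3 * k) - 1) * ((2 ^ (3 * k)) ^ 2 + 1)) := hc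
      rw [one_mul] at h7
      rw [h7] at h6
      have e3 : 2 ^ (3 * k) = (2 ^ k) ^ 3 := by rw [mul_comm, pow_mul]
      rw [e3] at h6
      have h8 : Prim ((2 ^ k) ^ 3) 2 r := Cfsg.Agent.H425.Chr.prim_quot (f := 3) (by norm_num) hr6
      rcases hr.prime.dvd_mul.1 h6 with h9 | h9
      · exact h8.not_dvd_pow _ h9
      · rcases hr.prime.dvd_mul.1 h9 with h9 | h9
        · rw [← pow_one ((2 ^ k) ^ 3), h8.dvd_iff] at h9
          exact absurd h9 (by norm_num)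
        · have h10 : r ∣ ((2 ^ k) ^ 3) ^ 2 - 1 := h8.dvd dvd_rfl
          have h11 := Nat.dvd_sub h9 h10
          have h12 : 1 ≤ ((2 ^ k) ^ 3) ^ 2 := Nat.one_le_pow _ _ (by positivity)
          rw [show ((2 ^ k) ^ 3) ^ 2 + 1 - (((2 ^ k) ^ 3) ^ 2 - 1) = 2 by omega] at h11
          exact hr3.not_dvd_two le_rfl h11
  case ree q =>
    exfalso
    obtain rfl : q = p ^ f₁ := hfl
    obtain ⟨m, hm, hqm⟩ : ∃ m, 1 ≤ m ∧ p ^ f₁ = 3 ^ (2 * m + 1) := hg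
    have h4 : p ∣ 3 ^ (2 * m + 1) := by
      rw [← hqm]
      exact dvd_pow_self p (by omega)
    exact hp3 ((Nat.prime_dvd_prime_iff_eq hp Nat.prime_three).1 (hp.dvd_of_dvd_pow h4))
  case tf4 q =>
    exfalso
    obtain rfl : q = p ^ f₁ := hfl
    have h5 : f₁ * 12 = f * 3 := hfM
    obtain rfl : f = 4 * f₁ := by omega
    have h1 : Prim (p ^ (4 * f₁)) 3 t := by
      have := prim3_pow (Or.inr rfl) ht
      rwa [← pow_mul, mul_comm f₁ 4] at this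
    have h7 : t ∣ num (.tf4 (p ^ f₁)) := by
      rw [← hc]
      exact (hs3 t h1).mul_left _
    exact not_dvd_tf4 ht h7
  all_goals exact absurd hch not_false

/-- **`G_2(q)`, `q ≥ 5` prime to 3, class 3.** -/
theorem charp_g2_3 (hp : p.Prime) (hp3 : p ≠ 3) (hf : 1 ≤ f) (hq5 : 5 ≤ p ^ f) (hg : Cond g) (hch : HasChar p g)
    (hc : den g * c = num g) (hdvd : c ∣ num (.g2 (p ^ f))) (hs3 : ∀ s, Prim (p ^ f) 3 s → s ∣ c) :
    g = .g2 (p ^ f) ∨ g = .psl 2 (p ^ (3 * f)) ∨ g = .psl 3 (p ^ f) ∨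
      (∃ h, f = 2 * h ∧ (g = .psl 2 (p ^ (3 * h)) ∨ g = .g2 (p ^ h))) ∨ (p = 2 ∧ f = 4 ∧ g = .sz 8) := by
  obtain ⟨f₁, hf₁, hfl, hK, hY⟩ := kd_all hp hg hch hc
  have hT := td_g2 hp hf hdvd
  have hM2 := two_le_Mg hg hch
  have h26 : ¬ (p = 2 ∧ f * 3 = 6) := by
    rintro ⟨rfl, h⟩
    obtain rfl : f = 2 := by omega
    norm_num at hq5
  have h21 : ¬ (p = 2 ∧ f = 1) := by
    rintro ⟨rfl, rfl⟩
    norm_num at hq5
  obtain ⟨s, hs⟩ := exists_prim (q := p) (e := f * 3) hp.two_le (by omega) h26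
  obtain ⟨x, hx, hx2⟩ := hK.exp hs (hs3 s (prim_pow hf hs))
  have hx3 := hK.le hx
  have hle : f * 3 ≤ f₁ * Mg g :=
    (Nat.le_of_dvd (Nat.mul_pos (by omega) (by omega)) hx2).trans (Nat.mul_le_mul_left _ hx3.2)
  have hne : ¬ (p = 2 ∧ f₁ * Mg g = 6) := by
    rintro ⟨h2, h6⟩
    have h7 : f = 1 ∨ f = 2 := by omega
    rcases h7 with h7 | h7
    · exact h21 ⟨h2, h7⟩
    · exact h26 ⟨h2, by omega⟩
  obtain ⟨t, ht⟩ := exists_prim (q := p) (e := f₁ * Mg g) hp.two_le (by omega) hne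
  obtain ⟨i, hi, hd⟩ := hT.exp ht (hK.has hY (by omega) ht)
  have hi' : i ∈ [2, 6] := hi
  simp only [List.mem_cons, List.not_mem_nil, or_false] at hi'
  have hM0 : 0 < f₁ * Mg g := by omega
  rcases hi' with rfl | rfl
  · exfalso
    have := Nat.le_of_dvd (by omega) hd
    omega
  obtain ⟨k, hk⟩ := hd
  have hk0 : k ≠ 0 := by
    rintro rfl
    omega
  have hk2 : k ≤ 2 := by
    by_contra hcon
    have h1 : f₁ * Mg g * 3 ≤ f₁ * Mg g * k := Nat.mul_le_mul_left _ (by omega)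
    omega
  obtain rfl | rfl : k = 1 ∨ k = 2 := by omega
  · -- the top exponent is `6 f`
    rw [mul_one] at hk
    rcases charp_g2_6 hp hf h21 hg hch hc hdvd (fun s hs => hK.has hY (by omega) (by rwa [← hk])) with
      h | h | h | ⟨h, -⟩ | ⟨h2, h, hfh, h3⟩
    · exact Or.inl h
    · exact Or.inr (Or.inl h)
    · exfalso
      subst h
      obtain ⟨r, hr⟩ := exists_prim (q := p ^ f) (e := 3) (by omega) (by norm_num) (by omega)
      have h7 : r ∣ num (.psu 3 (p ^ f)) := by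
        rw [← hc]
        exact (hs3 r hr).mul_left _
      exact not_dvd_u (e := 3) hr rfl (by norm_num) (by norm_num) _ h7
    · exact absurd h hp3
    · exfalso
      subst h2
      subst hfh
      have h4h : ((2 ^ h) ^ 2 : ℕ) = 2 ^ (2 * h) := by rw [← pow_mul, mul_comm]
      rcases h3 with h3 | h3
      · subst h3
        obtain ⟨r, hr⟩ := exists_prim (q := 2 ^ h) (e := 3) (Nat.le_self_pow (by omega) _) (by norm_num) (by omega)
        have h1 := prim3_pow (Or.inl rfl) hr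
        rw [h4h] at h1
        have h7 : r ∣ num (.tf4 (2 ^ h)) := by
          rw [← hc]
          exact (hs3 r h1).mul_left _
        exact not_dvd_tf4 hr h7
      · subst h3
        have hh1 : h ≠ 1 := by
          rintro rfl
          norm_num at hq5
        obtain ⟨r, hr⟩ := exists_prim (q := 2) (e := 2 * h * 3) le_rfl (by omega) (by omega)
        have hr2 := prim_pow hf hr
        have h6 := hs3 r hr2
        have h7 : 1 * c = (2 ^ (3 * h)) ^ 2 * ((2 ^ (3 * h) - 1) * ((2 ^ (3 * h)) ^ 2 + 1)) := hc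
        rw [one_mul] at h7
        rw [h7] at h6
        have h8 : Prim (2 ^ (3 * h)) 2 r := by
          rw [show 2 * h * 3 = 3 * h * 2 by ring] at hr
          exact prim_pow (by omega) hr
        rcases hr.prime.dvd_mul.1 h6 with h9 | h9
        · exact h8.not_dvd_pow _ h9
        · rcases hr.prime.dvd_mul.1 h9 with h9 | h9
          · rw [← pow_one (2 ^ (3 * h)), h8.dvd_iff] at h9
            exact absurd h9 (by norm_num)
          · have h10 : r ∣ (2 ^ (3 * h)) ^ 2 - 1 := h8.dvd dvd_rfl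
            have h11 := Nat.dvd_sub h9 h10
            have h12 : 1 ≤ (2 ^ (3 * h)) ^ 2 := Nat.one_le_pow _ _ (by positivity)
            rw [show (2 ^ (3 * h)) ^ 2 + 1 - ((2 ^ (3 * h)) ^ 2 - 1) = 2 by omega] at h11
            exact hr2.not_dvd_two le_rfl h11
  · -- the top exponent is `3 f`
    have hfM : f₁ * Mg g = f * 3 := by omega
    have ha : 2 * ag g ≤ 4 * Mg g := by
      have h1 := hT.pp hK.pp
      have h2 : f₁ * ag g ≤ f₁ * (2 * Mg g) := by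
        calc f₁ * ag g ≤ f * 6 := h1
          _ = 2 * (f₁ * Mg g) := by omega
          _ = f₁ * (2 * Mg g) := by ring
      have := Nat.le_of_mul_le_mul_left h2 (by omega)
      omega
    have hYc : ∀ e, Yg g e → 3 ≤ f₁ * e → ¬ (p = 2 ∧ f₁ * e = 6) → e ∣ 2 * Mg g := by
      intro e he h3 h6
      obtain ⟨u, hu⟩ := exists_prim (q := p) (e := f₁ * e) hp.two_le h3 h6
      obtain ⟨j, hj, hdj⟩ := hT.exp hu (hK.has he h3 hu)
      have hj' : j ∈ [2, 6] := hj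
      simp only [List.mem_cons, List.not_mem_nil, or_false] at hj'
      have h7 : f₁ * (3 * e) ∣ f₁ * (Mg g * j) := by
        have h8 : f₁ * e * 3 ∣ f * j * 3 := Nat.mul_dvd_mul_right hdj 3
        have h9 : f * j * 3 = f₁ * (Mg g * j) := by
          calc f * j * 3 = f * 3 * j := by ring
            _ = f₁ * Mg g * j := by rw [hfM]
            _ = f₁ * (Mg g * j) := by ring
        rw [h9] at h8
        exact (dvd_of_eq (by ring)).trans h8
      have h8 := Nat.dvd_of_mul_dvd_mul_left (by omega) h7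
      rcases hj' with rfl | rfl
      · rw [mul_comm 2]
        exact (Dvd.intro_left 3 rfl).trans h8
      · have h9 : 3 * e ∣ 3 * (2 * Mg g) := h8.trans (dvd_of_eq (by ring))
        exact Nat.dvd_of_mul_dvd_mul_left (by norm_num) h9
    rcases charp_g2_3b hp hp3 hf hg hch hc hdvd hs3 hf₁ hfl hfM ha hYc with h | h | h
    · exact Or.inr (Or.inr (Or.inl h))
    · exact Or.inr (Or.inr (Or.inr (Or.inl h)))
    · exact Or.inr (Or.inr (Or.inr (Or.inr h)))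

end Cfsg.Agent.H394.Wei
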