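import Cfsg.Agent.H394.Wei.Norm

/-!
# `Over` and isomorphisms (helper394)

`Over.congr` : transfer of `Over` along an isomorphism.
-/

set_option autoImplicit false

namespace Cfsg.Agent.H56.Wei

open Subgroup Cfsg.Agent.OrdDiv Cfsg.Agent.H436

theorem _root_.Cfsg.Agent.H394.Wei.mem_normalizer_map {T T' : Type*} [Group T] [Group T'] (e : T ≃* T') {A : Subgroup T}
    {h : T} (hh : e h ∈ normalizer ((A.map e.toMonoidHom : Subgroup T') : Set T')) : h ∈ normalizer (A : Set T) := by
  rw [mem_normalizer_iff] at hh ⊢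
  have key : ∀ b, e b ∈ A.map e.toMonoidHom ↔ b ∈ A := fun b =>
    ⟨fun ⟨a, ha, hab⟩ => e.injective hab ▸ ha, fun hb => ⟨b, hb, rfl⟩⟩
  intro b
  have h1 := hh (e b)
  rw [key, ← map_mul, ← map_inv, ← map_mul, key] at h1
  exact h1

/-- `Real` is invariant under isomorphisms, universes (adapted from helper944's `real_congr`) -/
theorem _root_.Cfsg.Agent.H394.Wei.real_congr {g : Grp} {X : Type*} {Y : Type*} [Group X] [Group Y] (h : Real g X)
    (e : Y ≃* X) : Real g Y := by
  cases g <;>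
    first
    | exact ⟨e.trans h.some⟩
    | (obtain ⟨F, i1, i2, h1, h2⟩ := h; exact ⟨F, i1, i2, h1, ⟨e.trans h2.some⟩⟩)
    | (obtain ⟨F, i1, i2, w, h1, h2, h3⟩ := h; exact ⟨F, i1, i2, w, h1, h2, ⟨e.trans h3.some⟩⟩)
    | (obtain ⟨F, i1, i2, a, c, h1, h2, h3⟩ := h; exact ⟨F, i1, i2, a, c, h1, h2, ⟨e.trans h3.some⟩⟩)
    | (obtain ⟨F, i1, i2, k, h1, h2, h3, h4⟩ := h; exact ⟨F, i1, i2, k, h1, h2, h3, ⟨e.trans h4.some⟩⟩)

theorem _root_.Cfsg.Agent.H394.Wei.named_congr {g : Grp} {X : Type*} {Y : Type*} [Group X] [Group Y] (h : IsNamed g X)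
    (e : Y ≃* X) : IsNamed g Y :=
  ⟨Cfsg.Agent.H394.Wei.real_congr h.real e, h.cond, by rw [Nat.card_congr e.toEquiv]; exact h.eq,
    by rw [Nat.card_congr e.toEquiv]; exact h.ord⟩

/-- **Transfer.** -/
theorem Over.congr {T : Type*} {T' : Type*} [Group T] [Group T'] (e : T ≃* T') {x : T} {P : Grp → Prop}
    (h : Over (e x) P) : Over x P := by
  intro H hx hH
  have hx' : e x ∈ H.map e.toMonoidHom := ⟨x, hx, rfl⟩
  have hH' : H.map e.toMonoidHom ≠ ⊤ := by
    intro h1
    apply hH
    rw [eq_top_iff]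
    intro y _
    have h2 : e y ∈ H.map e.toMonoidHom := h1 ▸ mem_top _
    obtain ⟨z, hz, hze⟩ := h2
    exact e.injective hze ▸ hz
  rcases h _ hx' hH' with h1 | ⟨S', hn, hs, hna, hC, hxS, g, hPg, hg⟩
  · left
    intro y hy
    apply Cfsg.Agent.H394.Wei.mem_normalizer_map e
    have h2 := h1 ⟨y, hy, rfl⟩
    rwa [show zpowers (e x) = (zpowers x).map e.toMonoidHom from (MonoidHom.map_zpowers e.toMonoidHom x).symm] at h2
  · right
    let φ : H ≃* ↥(H.map e.toMonoidHom) := e.subgroupMap H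
    let S : Subgroup H := S'.comap φ.toMonoidHom
    let ψ : S ≃* S' :=
      { toFun := fun a => ⟨φ a, a.2⟩
        invFun := fun b => ⟨φ.symm b, by
          show φ (φ.symm b) ∈ S'
          rw [MulEquiv.apply_symm_apply]
          exact b.2⟩
        left_inv := fun a => Subtype.ext (φ.symm_apply_apply _)
        right_inv := fun b => Subtype.ext (φ.apply_symm_apply _)
        map_mul' := fun a b => Subtype.ext (map_mul φ _ _) }
    have hsS : IsSimpleGroup S := by
      have : Nontrivial S := ψ.toEquiv.nontrivial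
      exact IsSimpleGroup.isSimpleGroup_of_surjective ψ.symm.toMonoidHom ψ.symm.surjective
    refine ⟨S, hn.comap _, hsS, ?_, ?_, ?_, g, hPg, Cfsg.Agent.H394.Wei.named_congr hg ψ⟩
    · intro hcomm
      apply hna
      refine ⟨⟨fun a b => ?_⟩⟩
      apply ψ.symm.injective
      rw [map_mul, map_mul]
      exact hcomm.is_comm.comm _ _
    · rw [eq_bot_iff]
      intro c hc
      have h2 : φ c ∈ centralizer (S' : Set ↥(H.map e.toMonoidHom)) := by
        rw [mem_centralizer_iff] at hc ⊢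
        intro b hb
        have h3 := hc (φ.symm b) (by
          show φ (φ.symm b) ∈ S'
          rw [MulEquiv.apply_symm_apply]
          exact hb)
        have h4 := congrArg φ h3
        rwa [map_mul, map_mul, MulEquiv.apply_symm_apply] at h4
      rw [hC, mem_bot] at h2
      rw [mem_bot]
      exact φ.injective (h2.trans (map_one φ).symm)
    · exact hxS

end Cfsg.Agent.H56.Wei
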