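import Cfsg.Agent.H563.KG.Wt

/-!
# Normal elementary abelian subgroups and a cyclic group acting with small fixed points (helper394)

`le_of_fix` : `A ⊴ G ≤ GL_n(F)` elementary abelian of exponent `t ≠ char F`, `y` of order `k > n` prime to `t`; if the
elements of `A` commuting with an element of prime order of `⟨y⟩` lie in `Z`, then `A ≤ Z`.
-/

set_option autoImplicit false

namespace Cfsg.Agent.H394.Wei

open Subgroup Cfsg.Agent.H563.KG Matrix

/-- the commutator map with `y` -/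
def cm {G : Type*} [Group G] (y b : G) : G := b * (y * b⁻¹ * y⁻¹)

theorem cm_mem {G : Type*} [Group G] {A : Subgroup G} [hAn : A.Normal] (y : G) {b : G} (hb : b ∈ A) : cm y b ∈ A :=
  A.mul_mem hb (hAn.conj_mem _ (A.inv_mem hb) y)

theorem cm_mul {G : Type*} [Group G] {A : Subgroup G} [hAn : A.Normal] (hA : ∀ a ∈ A, ∀ b ∈ A, a * b = b * a) (y : G)
    {a b : G} (ha : a ∈ A) (hb : b ∈ A) : cm y (a * b) = cm y a * cm y b := by
  have h1 : y * a⁻¹ * y⁻¹ ∈ A := hAn.conj_mem _ (A.inv_mem ha) y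
  have h2 : y * b⁻¹ * y⁻¹ ∈ A := hAn.conj_mem _ (A.inv_mem hb) y
  have e1 : y * (a * b)⁻¹ * y⁻¹ = (y * b⁻¹ * y⁻¹) * (y * a⁻¹ * y⁻¹) := by group
  unfold cm
  calc a * b * (y * (a * b)⁻¹ * y⁻¹) = a * b * ((y * b⁻¹ * y⁻¹) * (y * a⁻¹ * y⁻¹)) := by rw [e1]
    _ = a * (b * (y * a⁻¹ * y⁻¹)) * (y * b⁻¹ * y⁻¹) := by rw [hA _ h2 _ h1]; group
    _ = a * ((y * a⁻¹ * y⁻¹) * b) * (y * b⁻¹ * y⁻¹) := by rw [hA b hb _ h1]
    _ = a * (y * a⁻¹ * y⁻¹) * (b * (y * b⁻¹ * y⁻¹)) := by group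

/-- the group of commutators with `y`, inside a larger group `L` -/
def cmSub {G : Type*} [Group G] {A : Subgroup G} [hAn : A.Normal] (hA : ∀ a ∈ A, ∀ b ∈ A, a * b = b * a) (y : G)
    (L : Subgroup G) : Subgroup L where
  carrier := {l | ∃ b ∈ A, (l : G) = cm y b}
  one_mem' := ⟨1, A.one_mem, by simp [cm]⟩
  mul_mem' := by
    rintro l m ⟨a, ha, hl⟩ ⟨b, hb, hm⟩
    exact ⟨a * b, A.mul_mem ha hb, by rw [cm_mul hA y ha hb, Subgroup.coe_mul, hl, hm]⟩
  inv_mem' := by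
    rintro l ⟨a, ha, hl⟩
    refine ⟨a⁻¹, A.inv_mem ha, ?_⟩
    rw [Subgroup.coe_inv, hl, eq_comm, eq_inv_iff_mul_eq_one, ← cm_mul hA y (A.inv_mem ha) ha, inv_mul_cancel]
    simp [cm]

theorem le_of_fix {G : Type*} [Group G] [Finite G] {F : Type*} [Field F] {ι : Type*} [Fintype ι] [DecidableEq ι]
    {p : ℕ} [CharP F p] {τ : G →* GL ι F} (hτ : Function.Injective τ) {A : Subgroup G} [hAn : A.Normal] {t k : ℕ}
    (hp : p.Prime) (ht : t.Prime) (htp : t ≠ p) (hA : ∀ a ∈ A, ∀ b ∈ A, a * b = b * a) (hAt : ∀ a ∈ A, a ^ t = 1) {y : G}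
    (hy : orderOf y = k) (hk1 : 1 < k) (hkt : k.Coprime t) (hlt : Fintype.card ι < k) {Z : Subgroup G}
    (hZ : ∀ u ∈ zpowers y, (orderOf u).Prime → ∀ a ∈ A, a * u = u * a → a ∈ Z)
    (hZy : ∀ a ∈ A, a ∈ Z → a * y = y * a) : A ≤ Z := by
  let L : Subgroup G := A ⊔ zpowers y
  have hyL : y ∈ L := le_sup_right (a := A) (mem_zpowers y)
  let B : Subgroup L := cmSub hA y L
  have hBA : ∀ l ∈ B, (l : G) ∈ A := by
    rintro l ⟨b, hb, hl⟩
    rw [hl]; exact cm_mem y hb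
  have hform : ∀ g ∈ L, ∃ a ∈ A, ∃ j : ℤ, g = a * y ^ j := by
    intro g hg
    obtain ⟨a, ha, b, ⟨j, hj⟩, hab⟩ := (Subgroup.mem_sup_of_normal_left).1 hg
    exact ⟨a, ha, j, by rw [← hab, ← hj]⟩
  have hBn : B.Normal := by
    constructor
    rintro l ⟨b, hb, hl⟩ g
    obtain ⟨a, ha, j, hg⟩ := hform g g.2
    refine ⟨y ^ j * b * (y ^ j)⁻¹, hAn.conj_mem _ hb _, ?_⟩
    have e1 : y ^ j * cm y b * (y ^ j)⁻¹ = cm y (y ^ j * b * (y ^ j)⁻¹) := by
      unfold cm
      have h1 : y ^ j * y = y * y ^ j := ((Commute.refl y).zpow_left j).eq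
      have h2 : (y ^ j)⁻¹ * y⁻¹ = y⁻¹ * (y ^ j)⁻¹ := by
        rw [← _root_.mul_inv_rev, ← _root_.mul_inv_rev, h1]
      calc y ^ j * (b * (y * b⁻¹ * y⁻¹)) * (y ^ j)⁻¹ = y ^ j * b * ((y ^ j)⁻¹ * y ^ j) * y * b⁻¹ * (y⁻¹ * (y ^ j)⁻¹) := by
            group
        _ = (y ^ j * b * (y ^ j)⁻¹) * ((y ^ j * y) * b⁻¹ * ((y ^ j)⁻¹ * y⁻¹)) := by rw [h2]; group
        _ = (y ^ j * b * (y ^ j)⁻¹) * (y * (y ^ j * b * (y ^ j)⁻¹)⁻¹ * y⁻¹) := by rw [h1]; group
    rw [← e1, Subgroup.coe_mul, Subgroup.coe_mul, Subgroup.coe_inv, hg, hl]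
    have h3 : y ^ j * cm y b * (y ^ j)⁻¹ ∈ A := hAn.conj_mem _ (cm_mem y hb) _
    have h4 := hA a ha _ h3
    calc a * y ^ j * cm y b * (a * y ^ j)⁻¹ = a * (y ^ j * cm y b * (y ^ j)⁻¹) * a⁻¹ := by group
      _ = y ^ j * cm y b * (y ^ j)⁻¹ := by rw [h4, mul_inv_cancel_right]
  -- the elements of `B` commuting with `y` are trivial
  have hfixB : ∀ b ∈ A, cm y b * y = y * cm y b → cm y b = 1 := by
    intro b hb hc
    have key : ∀ i : ℕ, cm y b ^ i = b * (y ^ i * b⁻¹ * (y ^ i)⁻¹) := by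
      intro i
      induction i with
      | zero => simp
      | succ i ih =>
        have hc' : Commute (cm y b) (y ^ i) := (show Commute (cm y b) y from hc).pow_right i
        have h5 : cm y b = y ^ i * cm y b * (y ^ i)⁻¹ := by
          rw [eq_mul_inv_iff_mul_eq]; exact hc'.eq
        calc cm y b ^ (i + 1) = cm y b ^ i * cm y b := pow_succ _ _
          _ = b * (y ^ i * b⁻¹ * (y ^ i)⁻¹) * (y ^ i * cm y b * (y ^ i)⁻¹) := by rw [ih]; rw [← h5]
          _ = b * (y ^ (i + 1) * b⁻¹ * (y ^ (i + 1))⁻¹) := by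
            unfold cm
            rw [pow_succ]
            group
    have h1 := key k
    rw [← hy, pow_orderOf_eq_one, hy] at h1
    have h2 : cm y b ^ k = 1 := by rw [h1]; group
    have h3 : cm y b ^ t = 1 := hAt _ (cm_mem y hb)
    have h4 : orderOf (cm y b) = 1 :=
      Nat.eq_one_of_dvd_coprimes hkt (orderOf_dvd_of_pow_eq_one h2) (orderOf_dvd_of_pow_eq_one h3)
    exact orderOf_eq_one_iff.1 h4
  have hcardA : ∀ r, r.Prime → r ∣ Nat.card A → r = t := by
    intro r hr hd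
    have := Fact.mk hr
    obtain ⟨a, ha⟩ := exists_prime_orderOf_dvd_card' r hd
    have h1 : orderOf a ∣ t := orderOf_dvd_of_pow_eq_one (Subtype.ext (hAt a a.2))
    rw [ha] at h1
    exact (Nat.prime_dvd_prime_iff_eq hr ht).1 h1
  have hBcard : ¬ p ∣ Nat.card B := by
    intro hd
    have := Fact.mk hp
    obtain ⟨a, ha⟩ := exists_prime_orderOf_dvd_card' p hd
    have h1 : orderOf (((a : B) : L) : G) ∣ t := orderOf_dvd_of_pow_eq_one (hAt _ (hBA _ a.2))
    rw [Subgroup.orderOf_coe, Subgroup.orderOf_coe, ha] at h1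
    exact htp ((Nat.prime_dvd_prime_iff_eq hp ht).1 h1).symm
  have hkL : k ∣ Nat.card L := by
    rw [← hy, ← Subgroup.orderOf_mk y hyL]
    exact orderOf_dvd_natCard _
  have hB : B = ⊥ := by
    refine eq_bot_of_dvd (τ := τ.comp L.subtype) (hτ.comp L.subtype_injective) (A := B) ?_ hBcard hkL ?_ hlt
    · intro a ha b hb
      exact Subtype.ext (hA _ (hBA a ha) _ (hBA b hb))
    · intro w hw hwk b hb hc
      obtain ⟨a, ha, j, hwj⟩ := hform w w.2
      obtain ⟨b', hb', hbb⟩ := hb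
      have hbA : (b : G) ∈ A := hBA b ⟨b', hb', hbb⟩
      have hcG : (w : G) * b = b * w := congrArg Subtype.val hc
      -- `y ^ j` commutes with `b`
      have hyj : y ^ j * (b : G) = b * y ^ j := by
        rw [hwj] at hcG
        have h1 := hA _ ha _ hbA
        calc y ^ j * (b : G) = a⁻¹ * (a * y ^ j * b) := by group
          _ = a⁻¹ * (b * (a * y ^ j)) := by rw [hcG]
          _ = a⁻¹ * (b * a) * y ^ j := by group
          _ = b * y ^ j := by rw [← h1]; group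
      -- `y ^ j ∉ A`-trivially: its order is divisible by the prime `r = |w|`
      have hrt : orderOf w ≠ t := by
        intro h
        rw [h] at hwk
        exact ht.one_lt.ne' (Nat.eq_one_of_dvd_coprimes hkt hwk dvd_rfl)
      have hne : y ^ j ≠ 1 := by
        intro h1
        rw [h1, mul_one] at hwj
        have h2 : orderOf (w : G) ∣ t := orderOf_dvd_of_pow_eq_one (by rw [hwj]; exact hAt a ha)
        rw [Subgroup.orderOf_coe] at h2
        exact hrt ((Nat.prime_dvd_prime_iff_eq hw ht).1 h2)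
      -- an element of prime order of `⟨y⟩` commutes with `b`
      obtain ⟨s, hs, m, hm⟩ := Nat.exists_prime_and_dvd (n := orderOf (y ^ j)) (by rwa [Ne, orderOf_eq_one_iff])
      have hm0 : m ≠ 0 := by
        rintro rfl
        have := orderOf_pos (y ^ j)
        omega
      have hs1 : orderOf ((y ^ j) ^ m) = s := by
        rw [orderOf_pow_of_dvd hm0 (by rw [hm]; exact Dvd.intro_left _ rfl), hm,
          Nat.mul_div_cancel _ (Nat.pos_of_ne_zero hm0)]
      have hcom : (b : G) * (y ^ j) ^ m = (y ^ j) ^ m * b :=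
        ((show Commute (b : G) (y ^ j) from hyj.symm).pow_right m).eq
      have hbZ := hZ _ (pow_mem (zpow_mem (mem_zpowers y) j) m) (by rw [hs1]; exact hs) b hbA hcom
      have hby := hZy b hbA hbZ
      apply Subtype.ext
      rw [hbb] at hby ⊢
      exact hfixB b' hb' hby
  intro a ha
  have haL : a ∈ L := le_sup_left (a := A) ha
  have h1 : cm y a = 1 := by
    have h2 : (⟨cm y a, le_sup_left (a := A) (cm_mem y ha)⟩ : L) ∈ B := ⟨a, ha, rfl⟩
    rw [hB, mem_bot] at h2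
    exact congrArg Subtype.val h2
  have h2 : a * y = y * a := by
    unfold cm at h1
    have h3 : a = y * a * y⁻¹ := by
      have h4 := eq_inv_of_mul_eq_one_left h1
      calc a = (y * a⁻¹ * y⁻¹)⁻¹ := h4
        _ = y * a * y⁻¹ := by group
    calc a * y = (y * a * y⁻¹) * y := by rw [← h3]
      _ = y * a := by group
  obtain ⟨r, hr, m, hm⟩ := Nat.exists_prime_and_dvd (n := k) (by omega)
  have hm0 : m ≠ 0 := by
    rintro rfl
    omega
  have hs1 : orderOf (y ^ m) = r := by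
    rw [orderOf_pow_of_dvd hm0 (by rw [hy, hm]; exact Dvd.intro_left _ rfl), hy, hm,
      Nat.mul_div_cancel _ (Nat.pos_of_ne_zero hm0)]
  exact hZ _ (pow_mem (mem_zpowers y) m) (by rw [hs1]; exact hr) a ha ((show Commute a y from h2).pow_right _).eq

end Cfsg.Agent.H394.Wei
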