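import Cfsg.Agent.H983.ElG.KNum

/-!
# Simple groups of small degree with one cyclotomic class of `G₂(q)`: the numerical part (helper394)

* `cross_one` : Lie type in cross characteristic, degree at most 14: a divisor `k` of the order all of whose primes are
  congruent to 1 modulo 3 is at most 91 and its primes are at most 29;
* `spor_one` : sporadic groups: `k` lies in an explicit list.
-/

set_option autoImplicit false
set_option exponentiation.threshold 700

namespace Cfsg.Agent.H394.Wei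

open Cfsg.Agent.H902 Cfsg.Agent.H290.ElReg Cfsg.Agent.H290.ElTab Cfsg.Agent.H290.ElCross Cfsg.Agent.H563.KG
open Cfsg.Agent.H983.KG2 Cfsg.Agent.H946.Num Cfsg.Agent.H946.Rad
open Cfsg.Agent.H436 (Prim exists_prim)

/-- **Cross characteristic.** -/
theorem cross_one {X : Art.Sh} {l a N k : ℕ} (hR : Art.Real X l a N) (hlb : lb X (l ^ a) ≤ 14) (hk : k ∣ N)
    (h1k : ∀ r, r.Prime → r ∣ k → (r - 1) % 3 = 0) : k ≤ 91 ∧ ∀ r, r.Prime → r ∣ k → r ≤ 29 := by
  obtain ⟨hl, ha, hokX, heq⟩ := hR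
  have hreg := mem_reg (by norm_num) hl ha hokX hlb
  have hs' : smooth (NA X l a) = true :=
    List.all_eq_true.1 smooth_reg (X, (l, a)) (mem_reg le_rfl hl ha hokX (hlb.trans (by norm_num)))
  have hsS : smooth (NS X l a) = true := by
    have h1 : NS X l a ∣ NA X l a := Dvd.intro_left _ rfl
    have h2 : NA X l a ∣ prs.prod ^ 100 := Nat.dvd_of_mod_eq_zero (by simpa [smooth] using hs')
    simpa [smooth] using Nat.mod_eq_zero_of_dvd (h1.trans h2)
  have hM : OL X (l ^ a) = Art.dd X (l ^ a) * N := by unfold OL; rw [numL_eq]; exact heq.symm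
  have hNM : N ∣ OL X (l ^ a) := Dvd.intro_left _ hM.symm
  have hNS : ∀ r, r.Prime → r ∣ OL X (l ^ a) → r ∣ NS X l a := by
    intro r hr h
    unfold NS
    have h1 : r ∣ (l ^ a) ^ Art.NN X * numL X (l ^ a) := h
    rcases hr.dvd_mul.1 h1 with h2 | h2
    · exact (hr.dvd_of_dvd_pow (hr.dvd_of_dvd_pow h2)).mul_right _
    · exact h2.mul_left _
  have hb' := List.all_eq_true.1 bnd14_true (X, (l, a)) hreg
  simp only [Bool.and_eq_true, Nat.ble_eq, Nat.blt_eq, List.all_eq_true] at hb'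
  obtain ⟨hb1, hb2, hb3⟩ := hb'
  have hM0 : OL X (l ^ a) ≠ 0 := by
    intro h0
    have h3 : l ^ a ≠ 0 := pow_ne_zero _ hl.ne_zero
    have h4 : NS X l a ≠ 0 := by
      intro h5
      have h6 : NS X l a ∣ prs.prod ^ 100 := Nat.dvd_of_mod_eq_zero (by simpa [smooth] using hsS)
      rw [h5] at h6
      have h7 := Nat.eq_zero_of_zero_dvd h6
      have h8 : prs.prod ≠ 0 := by decide +kernel
      exact pow_ne_zero 100 h8 h7
    apply h4
    unfold OL at h0
    rcases Nat.mul_eq_zero.1 h0 with h5 | h5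
    · exact absurd h5 (pow_ne_zero _ h3)
    · unfold NS
      rw [h5, mul_zero]
  have hmem : ∀ r, r.Prime → r ∣ k → r ∈ pd (NS X l a) := fun r hr h =>
    mem_pd hsS hr (hNS r hr ((h.trans hk).trans hNM))
  have h1 : k ∣ De (pd (NS X l a)) (OL X (l ^ a)) 3 := dvd_De hM0 hb2 (hk.trans hNM) fun r hr h =>
    ⟨hmem r hr h, h1k r hr h⟩
  exact ⟨(Nat.le_of_dvd (Nat.pos_of_ne_zero (De_ne_zero hM0)) h1).trans hb1, fun r hr h => hb3 r (hmem r hr h)⟩

/-! ### sporadic groups -/

/-- the divisors of `M` with primes in the list -/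
def dvs (M : ℕ) : List ℕ → List ℕ
  | [] => [1]
  | r :: rs => (dvs M rs).flatMap fun d => ((List.range 12).filter fun i => M % r ^ i == 0).map fun i => r ^ i * d

theorem mem_dvs {M : ℕ} (ps : List ℕ) (hps : ∀ r ∈ ps, r.Prime ∧ ¬ r ^ 12 ∣ M) {k : ℕ} (hk0 : k ≠ 0) (hk : k ∣ M)
    (h : ∀ r, r.Prime → r ∣ k → r ∈ ps) : k ∈ dvs M ps := by
  induction ps generalizing k with
  | nil =>
    have : k = 1 := by
      by_contra h1
      obtain ⟨r, hr, hrk⟩ := Nat.exists_prime_and_dvd h1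
      exact absurd (h r hr hrk) (by simp)
    subst this
    exact List.mem_singleton.2 rfl
  | cons r rs ih =>
    obtain ⟨hr, hr12⟩ := hps r List.mem_cons_self
    obtain ⟨i, k', hk', rfl⟩ := Nat.exists_eq_pow_mul_and_not_dvd hk0 r hr.ne_one
    have hi : r ^ i ∣ M := (dvd_mul_right _ _).trans hk
    have h1 : k' ∈ dvs M rs := by
      refine ih (fun s hs => hps s (List.mem_cons_of_mem _ hs)) ?_ ((dvd_mul_left _ _).trans hk) fun s hs hsk => ?_
      · rintro rfl
        exact hk0 (mul_zero _)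
      · rcases List.mem_cons.1 (h s hs (hsk.mul_left _)) with h2 | h2
        · exact absurd (h2 ▸ hsk) hk'
        · exact h2
    have h2 : i < 12 := by
      by_contra hcon
      exact hr12 ((pow_dvd_pow r (by omega)).trans hi)
    unfold dvs
    rw [List.mem_flatMap]
    refine ⟨k', h1, List.mem_map.2 ⟨i, List.mem_filter.2 ⟨List.mem_range.2 h2, ?_⟩, rfl⟩⟩
    rw [beq_iff_eq]
    exact Nat.mod_eq_zero_of_dvd hi

/-- the primes of `M` congruent to 1 modulo 3, up to 71 -/
def p13 (M : ℕ) : List ℕ := [7, 13, 19, 31, 37, 43, 61, 67].filter fun r => M % r == 0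

/-- binary search for the root of `s ^ 2 + s + 1 ≤ m` -/
def rtq (m : ℕ) : ℕ → ℕ → ℕ
  | 0, s => s
  | i + 1, s => rtq m i (bif Nat.ble ((s + 2 ^ i) * (s + 2 ^ i) + (s + 2 ^ i) + 1) m then s + 2 ^ i else s)

/-- `m` is not of the form `q² + q + 1`, or `m = s² + s + 1` with `bad s` -/
def nsq (m : ℕ) (bad : ℕ → Bool) : Bool :=
  (Nat.blt (rtq m 21 0 * rtq m 21 0 + rtq m 21 0 + 1) m &&
    Nat.blt m ((rtq m 21 0 + 1) * (rtq m 21 0 + 1) + (rtq m 21 0 + 1) + 1)) ||
  ((rtq m 21 0 * rtq m 21 0 + rtq m 21 0 + 1 == m) && bad (rtq m 21 0)) || Nat.ble m 3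

theorem nsq_spec {m : ℕ} {bad : ℕ → Bool} (h : nsq m bad = true) {s : ℕ} (hs2 : 2 ≤ s) (hs : s ^ 2 + s + 1 = m) :
    bad s = true := by
  unfold nsq at h
  generalize rtq m 21 0 = t at h
  simp only [Bool.or_eq_true, Bool.and_eq_true, Nat.blt_eq, Nat.ble_eq, beq_iff_eq] at h
  rcases h with (⟨h1, h2⟩ | ⟨h1, h2⟩) | h
  · exfalso
    have h3 : t < s := by
      by_contra hcon
      have := Nat.mul_le_mul (not_lt.1 hcon) (not_lt.1 hcon)
      nlinarith
    have h4 : s < t + 1 := by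
      by_contra hcon
      have := Nat.mul_le_mul (not_lt.1 hcon) (not_lt.1 hcon)
      nlinarith
    omega
  · have h3 : t = s := by
      rcases Nat.lt_trichotomy t s with h3 | h3 | h3
      · exfalso
        have := Nat.mul_lt_mul'' h3 h3
        nlinarith
      · exact h3
      · exfalso
        have := Nat.mul_lt_mul'' h3 h3
        nlinarith
    rwa [← h3]
  · exfalso
    have := Nat.pow_le_pow_left hs2 2
    omega

def okp : Bool := Cfsg.Agent.OrdDiv.spor.all fun x => Nat.blt 0 x.2 && (p13 x.2).all fun r => !(x.2 % r ^ 12 == 0)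

theorem okp_true : okp = true := by decide +kernel

/-- **Sporadic groups.** -/
theorem spor_one {x : Cfsg.Agent.OrdDiv.Grp × ℕ} (hx : x ∈ Cfsg.Agent.OrdDiv.spor) {k : ℕ} (hk : k ∣ x.2)
    (h1k : ∀ r, r.Prime → r ∣ k → (r - 1) % 3 = 0) : k ∈ dvs x.2 (p13 x.2) := by
  have hs' : smooth x.2 = true := List.all_eq_true.1 smooth_spor x hx
  have hb' := List.all_eq_true.1 bndSp_true x hx
  simp only [Bool.and_eq_true, Nat.ble_eq, Nat.blt_eq, List.all_eq_true] at hb'
  obtain ⟨-, -, hb3⟩ := hb'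
  have ho := List.all_eq_true.1 okp_true x hx
  simp only [Bool.and_eq_true, Nat.blt_eq, List.all_eq_true, Bool.not_eq_true', beq_eq_false_iff_ne] at ho
  have hpr : ∀ r ∈ [7, 13, 19, 31, 37, 43, 61, 67], r.Prime := by
    intro r hr
    fin_cases hr <;> norm_num
  refine mem_dvs _ (fun r hr => ⟨hpr r (List.mem_of_mem_filter hr), fun h => ho.2 r hr (Nat.mod_eq_zero_of_dvd h)⟩)
    (by rintro rfl; have := Nat.eq_zero_of_zero_dvd hk; omega) hk fun r hr hrk => ?_
  have h1 := h1k r hr hrk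
  have h2 := hb3 r (mem_pd hs' hr (hrk.trans hk))
  refine List.mem_filter.2 ⟨?_, by rw [beq_iff_eq]; exact Nat.mod_eq_zero_of_dvd (hrk.trans hk)⟩
  have h3 := hr.two_le
  interval_cases r <;> first | omega | (exfalso; revert hr; norm_num; done) | simp

end Cfsg.Agent.H394.Wei
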