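import Cfsg.Agent.H394.Wei.G2Tri
import Cfsg.Agent.H394.Wei.G2Num
import Cfsg.Agent.H290.ElRich

/-!
# The classes 3 and 6 of `G₂(q)`; alternating groups with a big prime (helper394)
-/

set_option autoImplicit false

namespace Cfsg.Agent.H394.Wei

open Subgroup Cfsg Cfsg.Lie Cfsg.Agent.OrdDiv Cfsg.Agent.H436 Cfsg.Agent.H56.Exc Cfsg.Agent.H563.KG Cfsg.Agent.H983.KG2
open Cfsg.Agent.H946.Num Cfsg.Agent.H946.Rad

variable {p f : ℕ}

theorem cls1_three (hp : p.Prime) (hq : 5 ≤ p ^ f) : Cls1 p f 3 (N3 (p ^ f)) (c3 (p ^ f)) := by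
  have hq1 : 1 ≤ p ^ f := by omega
  have hN := c3_mul (p ^ f)
  have hN3 : N3 (p ^ f) = (p ^ f) ^ 2 + p ^ f + 1 := rfl
  have h25 : 5 ^ 2 ≤ (p ^ f) ^ 2 := Nat.pow_le_pow_left hq 2
  refine ⟨fun r hr h => prim_c3 hq1 hr h, fun r h => dvd_c3 hq1 h, ?_, not_three_c3 _, ?_, fun r hr h => ?_⟩
  · rcases gcd3 (n := N3 (p ^ f)) with h | ⟨h, -⟩
    · left; rw [h, one_mul] at hN; exact hN.symm
    · right; rw [h] at hN; exact hN.symm
  · rcases gcd3 (n := N3 (p ^ f)) with h | ⟨h, h3⟩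
    · rw [h, one_mul] at hN
      rw [hN]; omega
    · rw [h] at hN
      have h7 : 7 ≤ p ^ f := by
        by_contra hcon
        have h56 : p ^ f = 5 ∨ p ^ f = 6 := by omega
        rcases h56 with h5 | h5 <;> rw [h5] at h3 <;> revert h3 <;> decide
      have h49 : 7 ^ 2 ≤ (p ^ f) ^ 2 := Nat.pow_le_pow_left h7 2
      omega
  · have h1 := prim_c3 hq1 hr h
    refine seven_le hr ?_ (Or.inl (prim_N3 hq1 h1))
    rintro rfl
    exact not_three_c3 _ h

theorem cls1_six (hp : p.Prime) (hq : 7 ≤ p ^ f) : Cls1 p f 6 (N6 (p ^ f)) (c6 (p ^ f)) := by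
  have hq1 : 1 ≤ p ^ f := by omega
  have hN := c6_mul (p ^ f)
  have hN6 := cast_N6 (p ^ f)
  refine ⟨fun r hr h => prim_c6 hq1 hr h, fun r h => dvd_c6 hq1 h, ?_, not_three_c6 _, ?_, fun r hr h => ?_⟩
  · rcases gcd3 (n := N6 (p ^ f)) with h | ⟨h, -⟩
    · left; rw [h, one_mul] at hN; exact hN.symm
    · right; rw [h] at hN; exact hN.symm
  · rcases gcd3 (n := N6 (p ^ f)) with h | ⟨h, h3⟩
    · rw [h, one_mul] at hN
      rw [hN]
      have h10 : (7 : ℤ) ≤ ((p ^ f : ℕ) : ℤ) := by exact_mod_cast hq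
      have h11 : (14 : ℤ) < ((N6 (p ^ f) : ℕ) : ℤ) := by
        rw [hN6]
        nlinarith
      exact_mod_cast h11
    · rw [h] at hN
      have h8 : 8 ≤ p ^ f := by
        by_contra hcon
        have h7 : p ^ f = 7 := by omega
        rw [h7] at h3
        revert h3
        decide
      have h10 : (8 : ℤ) ≤ ((p ^ f : ℕ) : ℤ) := by exact_mod_cast h8
      have h11 : (42 : ℤ) < ((N6 (p ^ f) : ℕ) : ℤ) := by
        rw [hN6]
        nlinarith
      have h12 : 42 < N6 (p ^ f) := by exact_mod_cast h11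
      omega
  · have h1 := prim_c6 hq1 hr h
    have := prim_lt hq1 (by norm_num) h1
    omega

/-- elements of the class 3, all universes -/
theorem big_named_three {T : Type*} [Group T] (hT : IsNamed (.g2 (p ^ f)) T) {r : ℕ}
    (hr : Prim (p ^ f) 3 r) : Big T r (N3 (p ^ f)) 6 := by
  obtain ⟨F, _, _, hF, ⟨e⟩⟩ := hT.real
  refine (big_G2_3 hF (m := N3 (p ^ f)) ?_ hr).congr e.symm
  unfold N3
  push_cast
  ring

/-- elements of the class 6, all universes -/
theorem big_named_six {T : Type*} [Group T] (hT : IsNamed (.g2 (p ^ f)) T) {r : ℕ}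
    (hr : Prim (p ^ f) 6 r) : Big T r (N6 (p ^ f)) 6 := by
  obtain ⟨F, _, _, hF, ⟨e⟩⟩ := hT.real
  refine (big_G2_6 hF (m := N6 (p ^ f)) ?_ hr).congr e.symm
  rw [cast_N6]
  push_cast
  ring

/-! ### alternating groups -/

/-- the automizer of an `r`-cycle -/
theorem alt_dvd {S : Type*} [Group S] [Finite S] {r m e : ℕ} (h : Big S r m e) (hr : r ∣ Nat.card S) (h3 : 3 ≤ r)
    {k : ℕ} (Φ : S ≃* alternatingGroup (Fin k)) : r - 1 ∣ 2 * e := by
  have hp := h.prime
  have := Fact.mk hp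
  have hb := h.congr Φ
  have hrk : r ≤ k := by
    have h1 : r ∣ k.factorial := by
      have h2 : r ∣ Nat.card (Equiv.Perm (Fin k)) :=
        (hr.trans (Nat.card_congr Φ.toEquiv).dvd).trans (Subgroup.card_subgroup_dvd_card _)
      rwa [Nat.card_perm, Nat.card_fin] at h2
    exact (hp.dvd_factorial).1 h1
  -- an `r`-cycle
  obtain ⟨σ, hσ⟩ : ∃ σ : Equiv.Perm (Fin k), σ.cycleType = {r} := by
    have := (Equiv.Perm.exists_with_cycleType_iff (Fin k) (m := {r})).2 ⟨by simpa using hrk, by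
      intro a ha
      rw [Multiset.mem_singleton] at ha
      rw [ha]; exact hp.two_le⟩
    exact this
  have hodd : Odd r := hp.odd_of_ne_two (by omega)
  have hσc : σ.IsCycle := by
    rw [← Equiv.Perm.card_cycleType_eq_one, hσ, Multiset.card_singleton]
  have hσo : orderOf σ = r := by
    rw [← Equiv.Perm.lcm_cycleType, hσ, Multiset.lcm_singleton, normalize_eq]
  have hσA : σ ∈ alternatingGroup (Fin k) := by
    rw [Equiv.Perm.mem_alternatingGroup, hσc.sign]
    have h1 : σ.support.card = r := by rw [← hσo, hσc.orderOf]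
    rw [h1, hodd.neg_one_pow, neg_neg]
  -- a generator of the units
  obtain ⟨g, hg⟩ := IsCyclic.exists_ofOrder_eq_natCard (α := (ZMod r)ˣ)
  rw [Nat.card_eq_fintype_card, ZMod.card_units r] at hg
  set n : ℕ := ZMod.val (g : ZMod r) with hn
  have hcop : n.Coprime (orderOf σ) := by rw [hσo]; exact ZMod.val_coe_unit_coprime g
  have hconj : IsConj σ (σ ^ n) := by
    rw [Equiv.Perm.isConj_iff_cycleType_eq, hσc.cycleType, (hσc.pow_iff.2 hcop).cycleType,
      Equiv.Perm.support_pow_coprime hcop]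
  obtain ⟨z, hz⟩ := isConj_iff.1 hconj
  have hpow : ∀ j : ℕ, z ^ j * σ * (z ^ j)⁻¹ = σ ^ (n ^ j) := by
    intro j
    induction j with
    | zero => simp
    | succ j ih =>
      calc z ^ (j + 1) * σ * (z ^ (j + 1))⁻¹ = z * (z ^ j * σ * (z ^ j)⁻¹) * z⁻¹ := by
            rw [pow_succ']; group
        _ = (z * σ * z⁻¹) ^ (n ^ j) := by rw [ih, conj_pow]
        _ = σ ^ (n ^ (j + 1)) := by rw [hz, ← pow_mul, pow_succ']
  have hzA : z ^ 2 ∈ alternatingGroup (Fin k) := by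
    rw [Equiv.Perm.mem_alternatingGroup, map_pow, Int.units_sq]
  have h1 := hb.aut ⟨σ, hσA⟩ ⟨z ^ 2, hzA⟩ (by rw [Subgroup.orderOf_mk, hσo]) ⟨((n ^ 2 : ℕ) : ℤ), by
    show (⟨σ, hσA⟩ : alternatingGroup (Fin k)) ^ ((n ^ 2 : ℕ) : ℤ) = _
    rw [zpow_natCast]
    exact Subtype.ext (hpow 2).symm⟩
  have h2 : (z ^ 2) ^ e * σ = σ * (z ^ 2) ^ e := congrArg Subtype.val h1.eq
  have h3 : σ ^ (n ^ (2 * e)) = σ := by
    rw [← hpow (2 * e), mul_inv_eq_iff_eq_mul]
    rw [← pow_mul] at h2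
    exact h2
  have h4 : g ^ (2 * e) = 1 := by
    apply Units.ext
    have h5 : n ^ (2 * e) ≡ 1 [MOD r] := by
      rw [← hσo]
      exact pow_eq_pow_iff_modEq.1 (by rw [h3, pow_one])
    have h6 := (ZMod.natCast_eq_natCast_iff _ _ _).2 h5
    rw [Nat.cast_pow, hn, ZMod.natCast_zmod_val, Nat.cast_one] at h6
    rw [Units.val_pow_eq_pow_val, h6, Units.val_one]
  exact hg ▸ orderOf_dvd_of_pow_eq_one h4

/-- the degree -/
theorem alt_le {S : Type*} [Group S] [Finite S] {r m e : ℕ} (h : Big S r m e) (hr : r ∣ Nat.card S) (h5 : 5 ≤ r)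
    {k : ℕ} (Φ : S ≃* alternatingGroup (Fin k)) : k ≤ r + 3 :=
  Cfsg.Agent.H290.ElRich.alt_le h.prime h5 Φ hr fun x hx => by
    have := h.cyc x hx
    let _ := IsCyclic.commGroup (α := ↥(Subgroup.centralizer ({x} : Set S)))
    infer_instance

/-- `r = 7` or `r = 13` -/
theorem alt_prime {S : Type*} [Group S] [Finite S] {r m : ℕ} (h : Big S r m 6) (hr : r ∣ Nat.card S) (h7 : 7 ≤ r)
    {k : ℕ} (Φ : S ≃* alternatingGroup (Fin k)) : r = 7 ∨ r = 13 := by
  have h1 := alt_dvd h hr (by omega) Φ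
  have h2 := Nat.le_of_dvd (by norm_num) h1
  have hp := h.prime
  have h3 : r ≤ 13 := by omega
  interval_cases r
  · exact Or.inl rfl
  · exact absurd hp (by norm_num)
  · exact absurd hp (by norm_num)
  · exact absurd hp (by norm_num)
  · revert h1; norm_num
  · exact absurd hp (by norm_num)
  · exact Or.inr rfl

end Cfsg.Agent.H394.Wei
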