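import Cfsg.Agent.H394.Wei.Fix
import Cfsg.Agent.H394.Wei.Full
import Cfsg.Agent.H983.ElG.KMain

/-!
# Overgroups of one torus of `G₂(q)`: the trichotomy (helper394)

`trich` : `x ∈ G₂(q)` of order `N = q² ± q + 1`, `M ∋ x` : `M` normalises `⟨x⟩`, or (if `3 ∣ N`) the subgroup of order 3
of `⟨x⟩`, or has a simple normal subgroup `S` with trivial centraliser, containing the `3'`-part of `⟨x⟩`.
-/

set_option autoImplicit false

namespace Cfsg.Agent.H394.Wei

open Subgroup Cfsg Cfsg.Lie Cfsg.Agent.OrdDiv Cfsg.Agent.H436 Cfsg.Agent.H56.Exc Cfsg.Agent.H563.KG Cfsg.Agent.H983.KG2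
open Cfsg.Agent.H946.Num Cfsg.Agent.H946.Rad

/-- a cyclic subgroup of prime order `r`, `r` big, with fewer than `r` conjugates is normal -/
theorem normal_of_index_lt {G : Type*} [Group G] [Finite G] {r m e : ℕ} (h : Big G r m e) {u : G} (hu : orderOf u = r)
    (hi : (normalizer (zpowers u : Set G)).index < r) : (zpowers u).Normal := by
  classical
  have hr := h.prime
  set K := normalizer (zpowers u : Set G) with hK
  have h1 : MulAction.toPermHom G (G ⧸ K) u = 1 := by
    have h2 : orderOf (MulAction.toPermHom G (G ⧸ K) u) ∣ r := by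
      rw [← hu]; exact orderOf_map_dvd _ _
    have h3 : orderOf (MulAction.toPermHom G (G ⧸ K) u) ∣ (K.index).factorial := by
      have h4 : Nat.card (Equiv.Perm (G ⧸ K)) = K.index.factorial := by
        rw [Nat.card_perm]; rfl
      rw [← h4]
      exact _root_.orderOf_dvd_natCard _
    rcases (Nat.dvd_prime hr).1 h2 with h5 | h5
    · exact orderOf_eq_one_iff.1 h5
    · exfalso
      rw [h5] at h3
      have := (Nat.Prime.dvd_factorial hr).1 h3
      omega
  have key : ∀ g : G, g * u * g⁻¹ ∈ zpowers u := by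
    intro g
    have h2 : u • ((g⁻¹ : G) : G ⧸ K) = ((g⁻¹ : G) : G ⧸ K) := by
      have := congrArg (fun σ : Equiv.Perm (G ⧸ K) => σ ((g⁻¹ : G) : G ⧸ K)) h1
      simpa using this
    have h3 : (g⁻¹)⁻¹ * (u * g⁻¹) ∈ K := by
      rw [← QuotientGroup.eq]
      exact h2.symm
    have h4 : g * u * g⁻¹ ∈ K := by
      have : (g⁻¹)⁻¹ * (u * g⁻¹) = g * u * g⁻¹ := by group
      rwa [this] at h3
    have h5 : (g * u * g⁻¹) * u * (g * u * g⁻¹)⁻¹ ∈ zpowers u := (mem_normalizer_iff.1 h4 u).1 (mem_zpowers u)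
    have h6 := h.aut u (g * u * g⁻¹) hu h5
    have ho : orderOf (g * u * g⁻¹) = r := by
      rw [← hu, ← MulAut.conj_apply]; exact (MulAut.conj g).orderOf_eq _
    have h7 : Commute (g * u * g⁻¹) u := by
      have hcop : (orderOf (g * u * g⁻¹)).Coprime e := by
        rw [ho]; exact (Nat.Prime.coprime_iff_not_dvd hr).2 h.ndvd
      obtain ⟨m', hm'⟩ := exists_pow_eq_self_of_coprime (x := g * u * g⁻¹) (n := e) hcop.symm
      have := h6.pow_left m'
      rwa [hm'] at this
    exact mem_zpowers_of_cyclic (h.cyc u hu) (mem_centralizer_singleton_iff.2 rfl)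
      (mem_centralizer_singleton_iff.2 h7.eq) (by rw [hu, ho])
  constructor
  rintro _ ⟨j, rfl⟩ g
  show g * u ^ j * g⁻¹ ∈ _
  rw [← conj_zpow]
  exact zpow_mem (key g) j

/-- the numerical data of one class of tori -/
structure Cls1 (p f c N k : ℕ) : Prop where
  prim_of : ∀ r, r.Prime → r ∣ k → Prim (p ^ f) c r
  of_prim : ∀ r, Prim (p ^ f) c r → r ∣ k
  hN : N = k ∨ N = 3 * k
  h3 : ¬ 3 ∣ k
  h14 : 14 < k
  seven : ∀ r, r.Prime → r ∣ k → 7 ≤ r

variable {p f c N k : ℕ}

/-- the centraliser of an element of prime order of the torus -/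
theorem cent_le {T : Type*} [Group T] [Finite T] {r N : ℕ} {x u : T} (hb : Big T r N 6) (hx : orderOf x = N) (hu : orderOf u = r)
    (hux : u ∈ zpowers x) : centralizer ({u} : Set T) = zpowers x := by
  have hle : zpowers x ≤ centralizer ({u} : Set T) := by
    rintro _ ⟨j, rfl⟩
    obtain ⟨i, rfl⟩ := hux
    rw [mem_centralizer_singleton_iff]
    exact (((Commute.refl x).zpow_left j).zpow_right i).eq
  symm
  apply Subgroup.eq_of_le_of_card_ge hle
  rw [Nat.card_zpowers, hx]
  refine Nat.le_of_dvd ?_ (hb.card u hu)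
  rw [← hx]; exact orderOf_pos x

/-- **The trichotomy.** -/
theorem trich {T : Type} [Group T] [Finite T] (D : Dat T p f) (hC : Cls1 p f c N k)
    (hb : ∀ r, Prim (p ^ f) c r → Big T r N 6) (hiso : ∀ r, Prim (p ^ f) c r → H325.Loc.PIso p r T) {x : T}
    (hx : orderOf x = N) {M : Subgroup T} (hxM : x ∈ M) :
    M ≤ normalizer (zpowers x : Set T) ∨ (N = 3 * k ∧ M ≤ normalizer (zpowers (x ^ k) : Set T)) ∨
    ∃ S : Subgroup M, S.Normal ∧ IsSimpleGroup S ∧ ¬ IsMulCommutative S ∧ centralizer (S : Set M) = ⊥ ∧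
      k ∣ Nat.card S ∧ (∀ r, r.Prime → r ∣ k → Big S r N 6 ∧ r ∣ Nat.card S ∧ ¬ r ∣ S.index) := by
  by_cases hA1 : M ≤ normalizer (zpowers x : Set T)
  · exact Or.inl hA1
  by_cases hA2 : N = 3 * k ∧ M ≤ normalizer (zpowers (x ^ k) : Set T)
  · exact Or.inr (Or.inl hA2)
  right; right
  have h14 := hC.h14
  obtain ⟨r₀, hr₀, hr₀k⟩ := Nat.exists_prime_and_dvd (n := k) (by omega)
  have hkN : k ∣ N := by
    rcases hC.hN with h | h
    · exact h ▸ dvd_rfl
    · exact ⟨3, by rw [h, mul_comm]⟩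
  have hN0 : 0 < N := by rw [← hx]; exact orderOf_pos x
  let xM : M := ⟨x, hxM⟩
  have hxM' : orderOf xM = N := by rw [Subgroup.orderOf_mk, hx]
  have hNM : N ∣ Nat.card M := by rw [← hxM']; exact _root_.orderOf_dvd_natCard _
  have hkM : k ∣ Nat.card M := hkN.trans hNM
  have hbM : ∀ r, r.Prime → r ∣ k → Big M r N 6 := fun r hr hrk => (hb r (hC.prim_of r hr hrk)).subgroup M
  -- the elements of prime order of `⟨x⟩`
  have hcentM : ∀ r, r.Prime → r ∣ k → ∀ u : M, orderOf u = r → u ∈ zpowers xM →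
      centralizer ({u} : Set M) = zpowers xM := fun r hr hrk u hu hux => cent_le (hbM r hr hrk) hxM' hu hux
  have hcentT : ∀ r, r.Prime → r ∣ k → ∀ u : T, orderOf u = r → u ∈ zpowers x →
      centralizer ({u} : Set T) = zpowers x := fun r hr hrk u hu hux =>
    cent_le (hb r (hC.prim_of r hr hrk)) hx hu hux
  -- no normal subgroup of order `r`
  have hnn : ∀ r, r.Prime → r ∣ k → ∀ u : M, orderOf u = r → u ∈ zpowers xM → ¬ (zpowers u).Normal := by
    intro r hr hrk u hu hux hn
    apply hA1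
    have hcT := hcentT r hr hrk (u : T) (by rw [Subgroup.orderOf_coe, hu]) (by
      obtain ⟨j, hj⟩ := hux
      exact ⟨j, by rw [← hj]; rfl⟩)
    intro g hg
    rw [mem_normalizer_iff]
    have hconj : ∀ a : T, a ∈ M → ∀ b, b ∈ zpowers x → a * b * a⁻¹ ∈ zpowers x := by
      intro a ha b hb'
      rw [← hcT, mem_centralizer_singleton_iff]
      have h1 : (⟨a, ha⟩ : M)⁻¹ * u * (⟨a, ha⟩ : M)⁻¹⁻¹ ∈ zpowers u := hn.conj_mem _ (mem_zpowers u) _
      obtain ⟨j, hj⟩ := h1
      have h2 : a⁻¹ * (u : T) * a = (u : T) ^ j := by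
        have := congrArg Subtype.val hj
        simpa using this.symm
      have h3 : b * (u : T) ^ j = (u : T) ^ j * b := by
        have h4 : b ∈ centralizer ({(u : T)} : Set T) := by rw [hcT]; exact hb'
        exact ((show Commute b (u : T) from mem_centralizer_singleton_iff.1 h4).zpow_right j).eq
      calc a * b * a⁻¹ * (u : T) = a * (b * (a⁻¹ * (u : T) * a)) * a⁻¹ := by group
        _ = a * ((u : T) ^ j * b) * a⁻¹ := by rw [h2, h3]
        _ = a * ((a⁻¹ * (u : T) * a) * b) * a⁻¹ := by rw [h2]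
        _ = (u : T) * (a * b * a⁻¹) := by group
    intro b
    refine ⟨fun hb' => hconj g hg b hb', fun hb' => ?_⟩
    have := hconj g⁻¹ (M.inv_mem hg) _ hb'
    have e1 : g⁻¹ * (g * b * g⁻¹) * g⁻¹⁻¹ = b := by group
    rwa [e1] at this
  -- existence of such elements
  have hex : ∀ r, r.Prime → r ∣ k → ∃ u : M, orderOf u = r ∧ u ∈ zpowers xM := by
    intro r hr hrk
    obtain ⟨m, hm⟩ := hrk.trans hkN
    have hm0 : m ≠ 0 := by
      rintro rfl
      omega
    refine ⟨xM ^ m, ?_, pow_mem (mem_zpowers _) _⟩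
    rw [orderOf_pow_of_dvd hm0 (by rw [hxM', hm]; exact Dvd.intro_left _ rfl), hxM', hm,
      Nat.mul_div_cancel _ (Nat.pos_of_ne_zero hm0)]
  -- the family
  let B : ℕ → ℕ → ℕ → Prop := fun r m e => (r.Prime ∧ r ∣ k) ∧ m = N ∧ e = 6
  have hPr : ∀ r, Pr B r ↔ r.Prime ∧ r ∣ k := fun r => ⟨fun ⟨_, _, h⟩ => h.1, fun h => ⟨_, _, h, rfl, rfl⟩⟩
  have hfam : RFam M B := by
    refine ⟨?_, ?_, ?_⟩
    · rintro r _ _ ⟨⟨hr, hrk⟩, rfl, rfl⟩
      exact hbM r hr hrk
    · rintro r _ _ ⟨⟨hr, hrk⟩, rfl, rfl⟩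
      exact hrk.trans hkM
    · rintro r _ _ ⟨⟨hr, hrk⟩, rfl, rfl⟩ hcon
      obtain ⟨u, hu, hux⟩ := hex r hr hrk
      refine hnn r hr hrk u hu hux (normal_of_index_lt (hbM r hr hrk) hu ?_)
      have hle : zpowers xM ≤ normalizer (zpowers u : Set M) := by
        rw [← hcentM r hr hrk u hu hux]
        intro g hg
        rw [mem_normalizer_iff]
        have hg' : ∀ b, b ∈ zpowers u → g * b * g⁻¹ = b := by
          rintro _ ⟨j, rfl⟩
          have h1 : Commute g u := mem_centralizer_singleton_iff.1 hg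
          rw [mul_inv_eq_iff_eq_mul]
          exact (h1.zpow_right j).eq
        intro b
        refine ⟨fun hb' => by rw [hg' b hb']; exact hb', fun hb' => ?_⟩
        have h2 := hg' _ hb'
        have h3 : b = g⁻¹ * (g * b * g⁻¹) * g := by group
        have h4 : g⁻¹ * (g * b * g⁻¹) * g = g * b * g⁻¹ := by
          have h5 : Commute g (g * b * g⁻¹) := by
            have : g * (g * b * g⁻¹) = (g * b * g⁻¹) * g := by rw [← mul_inv_eq_iff_eq_mul]; exact h2
            exact this
          rw [mul_assoc, ← h5.eq, ← mul_assoc, inv_mul_cancel, one_mul]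
        rw [h3, h4]
        exact hb'
      have h1 : (normalizer (zpowers u : Set M)).index ∣ (zpowers xM).index := Subgroup.index_dvd_of_le hle
      have h2 := (zpowers xM).card_mul_index
      rw [Nat.card_zpowers, hxM'] at h2
      rw [← h2, mul_comm 6] at hcon
      have h3 : (zpowers xM).index ∣ 6 := Nat.dvd_of_mul_dvd_mul_left hN0 hcon
      have h4 := Nat.le_of_dvd (by norm_num) (h1.trans h3)
      have h5 := hC.seven r hr hrk
      omega
  -- reducedness
  obtain ⟨F, _, hcF, hF⟩ := D.fth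
  obtain ⟨τ, hτ⟩ := hF.sub M.subtype M.subtype_injective
  have hred : Red M (Pr B) := by
    refine red_of' (p := p) cycFixSolv ?_ ((hPr r₀).2 ⟨hr₀, hr₀k⟩) hr₀ (hr₀k.trans hkM) (hbM r₀ hr₀ hr₀k).cyc ?_
    · exact pcore_of_piso ((hiso r₀ (hC.prim_of r₀ hr₀ hr₀k)).sub M) (hr₀k.trans hkM)
    · intro t ht htp hnt A hA hAc hAt
      have htk : ¬ t ∣ k := fun h => hnt ((hPr t).2 ⟨ht, h⟩)
      by_contra hAne
      let y : M := xM ^ (N / k)
      have hNk : N / k ≠ 0 := (Nat.div_pos (Nat.le_of_dvd hN0 hkN) (by omega)).ne'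
      have hy : orderOf y = k := by
        rw [orderOf_pow_of_dvd hNk (by rw [hxM']; exact Nat.div_dvd_of_dvd hkN), hxM', Nat.div_div_self hkN (by omega)]
      have hkt : k.Coprime t := ((Nat.Prime.coprime_iff_not_dvd ht).2 htk).symm
      -- elements of `A` commuting with an element of prime order of `⟨y⟩`
      have hfix : ∀ u ∈ zpowers y, (orderOf u).Prime → ∀ a ∈ A, a * u = u * a → a ∈ zpowers xM := by
        intro u hu hup a ha hc
        have hux : u ∈ zpowers xM := (zpowers_le.2 (pow_mem (mem_zpowers xM) _)) hu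
        have huk : orderOf u ∣ k := by rw [← hy]; exact orderOf_dvd_of_mem_zpowers hu
        rw [← hcentM _ hup huk u rfl hux, mem_centralizer_singleton_iff]
        exact hc
      by_cases htN : t ∣ N
      · -- `t = 3`
        have ht3 : t = 3 ∧ N = 3 * k := by
          rcases hC.hN with h | h
          · exact absurd (h ▸ htN) htk
          · rw [h] at htN
            refine ⟨?_, h⟩
            rcases ht.dvd_mul.1 htN with h1 | h1
            · exact (Nat.prime_dvd_prime_iff_eq ht Nat.prime_three).1 h1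
            · exact absurd h1 htk
        obtain ⟨rfl, hN3⟩ := ht3
        have hzo : orderOf (xM ^ k) = 3 := by
          rw [orderOf_pow_of_dvd (by omega) (by rw [hxM']; exact hkN), hxM', hN3, Nat.mul_div_cancel _ (by omega)]
        have hZ3 : ∀ a ∈ zpowers xM, a ^ 3 = 1 → a ∈ zpowers (xM ^ k) := by
          intro a ha h3
          rcases (Nat.dvd_prime Nat.prime_three).1 (orderOf_dvd_of_pow_eq_one h3) with h4 | h4
          · rw [orderOf_eq_one_iff.1 h4]; exact one_mem _
          · exact mem_zpowers_of_cyclic (C := zpowers xM) inferInstance (pow_mem (mem_zpowers _) k) ha (by rw [h4, hzo])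
        have hle : A ≤ zpowers (xM ^ k) := by
          refine le_of_fix hτ D.hp ht htp hAc hAt hy (by omega) hkt (by rw [Fintype.card_fin]; exact h14)
            (fun u hu hup a ha hc => hZ3 a (hfix u hu hup a ha hc) (hAt a ha)) ?_
          rintro a - ⟨j, rfl⟩
          exact (((Commute.refl xM).pow_left k).zpow_left j).pow_right (N / k) |>.eq
        have hAeq : A = zpowers (xM ^ k) := by
          apply Subgroup.eq_of_le_of_card_ge hle
          rw [Nat.card_zpowers, hzo]
          have h1 : Nat.card A ∣ 3 := by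
            rw [← hzo, ← Nat.card_zpowers]
            exact Subgroup.card_dvd_of_le hle
          rcases (Nat.dvd_prime Nat.prime_three).1 h1 with h2 | h2
          · exact absurd ((Subgroup.card_eq_one).1 h2) hAne
          · exact h2.ge
        apply hA2
        refine ⟨hN3, ?_⟩
        have hn : (zpowers (xM ^ k)).Normal := hAeq ▸ hA
        have hconj : ∀ a : T, a ∈ M → ∀ b, b ∈ zpowers (x ^ k) → a * b * a⁻¹ ∈ zpowers (x ^ k) := by
          rintro a ha _ ⟨j, rfl⟩
          have h1 := hn.conj_mem _ (zpow_mem (mem_zpowers (xM ^ k)) j) ⟨a, ha⟩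
          obtain ⟨i, hi⟩ := h1
          refine ⟨i, ?_⟩
          have := congrArg Subtype.val hi
          simpa [xM] using this
        intro g hg
        rw [mem_normalizer_iff]
        intro b
        refine ⟨fun hb' => hconj g hg b hb', fun hb' => ?_⟩
        have := hconj g⁻¹ (M.inv_mem hg) _ hb'
        have e1 : g⁻¹ * (g * b * g⁻¹) * g⁻¹⁻¹ = b := by group
        rwa [e1] at this
      · -- free action
        apply hAne
        rw [eq_bot_iff]
        refine le_of_fix hτ D.hp ht htp hAc hAt hy (by omega) hkt (by rw [Fintype.card_fin]; exact h14) ?_ ?_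
        · intro u hu hup a ha hc
          have h1 := hfix u hu hup a ha hc
          have h2 : orderOf a ∣ N := by rw [← hxM']; exact orderOf_dvd_of_mem_zpowers h1
          rw [mem_bot]
          rcases (Nat.dvd_prime ht).1 (orderOf_dvd_of_pow_eq_one (hAt a ha)) with h4 | h4
          · exact orderOf_eq_one_iff.1 h4
          · exact absurd (h4 ▸ h2) htN
        · intro a _ ha
          rw [mem_bot.1 ha, one_mul, mul_one]
  obtain ⟨S, hSn, hSs, hSna, hSC, hS⟩ := exists_fullC cycFixSolv hfam hred (r₁ := r₀) (m₁ := N) (e₁ := 6)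
    ⟨⟨hr₀, hr₀k⟩, rfl, rfl⟩
  have hS0 : ∀ r, r.Prime → r ∣ k → Big S r N 6 ∧ r ∣ Nat.card S ∧ ¬ r ∣ S.index := fun r hr hrk => by
    obtain ⟨h1, h2, h3, -⟩ := hS r N 6 ⟨⟨hr, hrk⟩, rfl, rfl⟩
    exact ⟨h1, h2, h3⟩
  refine ⟨S, hSn, hSs, hSna, hSC, ?_, hS0⟩
  rw [← Subgroup.card_mul_index S] at hkM
  refine Nat.Coprime.dvd_of_dvd_mul_right (Nat.coprime_of_dvd fun r hr h1 h2 => ?_) hkM
  exact (hS0 r hr h1).2.2 h2

end Cfsg.Agent.H394.Wei
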