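import Cfsg.Agent.H56.Wei.Defs

/-!
# Tools for the overgroups of a torus element (helper394)

* `le_normalizer_of_card` : a subgroup `H ∋ x` with `|H| ∣ k |x|`, `|x|` prime to `k!`, normalises `⟨x⟩`;
* `Over.congr` : transport along isomorphisms.
-/

set_option autoImplicit false

namespace Cfsg.Agent.H394.Wei

open Subgroup Cfsg.Agent.H56.Wei Cfsg.Agent.OrdDiv Cfsg.Agent.H436

/-- a subgroup whose index divides `k` and whose order is prime to `k!` is normal -/
theorem normal_of_index {G : Type*} [Group G] [Finite G] {k : ℕ} (C : Subgroup G) (hk : C.index ∣ k)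
    (hk0 : k ≠ 0) (hc : (Nat.card C).Coprime k.factorial) : C.Normal := by
  classical
  have h1 : C.normalCore.index ∣ k.factorial := by
    have h2 : C.normalCore.index = Nat.card (MulAction.toPermHom G (G ⧸ C)).range := by
      rw [Subgroup.normalCore_eq_ker, Subgroup.index_ker]
    have h3 : Nat.card (Equiv.Perm (G ⧸ C)) = C.index.factorial := by
      rw [Nat.card_perm]; rfl
    rw [h2]
    refine (Subgroup.card_subgroup_dvd_card _).trans ?_
    rw [h3]
    exact Nat.factorial_dvd_factorial (Nat.le_of_dvd (Nat.pos_of_ne_zero hk0) hk)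
  have h4 : C.normalCore.relIndex C ∣ Nat.card C := Subgroup.relIndex_dvd_card _ _
  have h5 : C.normalCore.relIndex C ∣ C.normalCore.index :=
    Dvd.intro _ (Subgroup.relIndex_mul_index C.normalCore_le)
  have h6 : C.normalCore.relIndex C = 1 :=
    Nat.eq_one_of_dvd_coprimes hc h4 (h5.trans h1)
  have h7 : C ≤ C.normalCore := Subgroup.relIndex_eq_one.1 h6
  have h8 : C.normalCore = C := le_antisymm C.normalCore_le h7
  rw [← h8]
  infer_instance

theorem le_normalizer_of_card {T : Type*} [Group T] [Finite T] {k : ℕ} {H : Subgroup T} {x : T} (hx : x ∈ H)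
    (hk0 : k ≠ 0) (hc : (orderOf x).Coprime k.factorial) (hH : Nat.card H ∣ k * orderOf x) :
    H ≤ normalizer (zpowers x : Set T) := by
  have hle : zpowers x ≤ H := (Subgroup.zpowers_le).2 hx
  let C : Subgroup H := (zpowers x).subgroupOf H
  have hcC : Nat.card C = orderOf x := by
    rw [← Nat.card_zpowers]
    exact Nat.card_congr (Subgroup.subgroupOfEquivOfLe hle).toEquiv
  have hidx : C.index ∣ k := by
    have h1 : Nat.card C * C.index = Nat.card H := C.card_mul_index
    rw [hcC] at h1
    rw [← h1, mul_comm k] at hH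
    exact Nat.dvd_of_mul_dvd_mul_left (orderOf_pos x) hH
  have hn : C.Normal := normal_of_index C hidx hk0 (by rw [hcC]; exact hc)
  exact (Subgroup.normal_subgroupOf_iff_le_normalizer hle).1 hn

theorem Over.mono {T : Type*} [Group T] {x : T} {P Q : Grp → Prop} (h : Over x P) (hPQ : ∀ g, P g → Q g) : Over x Q := by
  intro H hx hH
  rcases h H hx hH with h1 | ⟨S, i1, i2, h1, h2, h3, g, h4, h5⟩
  · exact Or.inl h1
  · exact Or.inr ⟨S, i1, i2, h1, h2, h3, g, hPQ g h4, h5⟩

end Cfsg.Agent.H394.Wei
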