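import Cfsg.Agent.H394.Wei.Norm
import Cfsg.Agent.H349.KD4.Main
import Cfsg.Agent.H563.KG.CycFix
import Cfsg.Agent.OrdDiv.Table
import Cfsg.Agent.S0000

/-!
# Overgroups of the torus of order `q⁴ - q² + 1` of `³D₄(q)` (helper394)

`over_td4` : a proper subgroup of `³D₄(q)` containing an element `x` of order `q⁴ - q² + 1` normalises `⟨x⟩`.
-/

set_option autoImplicit false

namespace Cfsg.Agent.H394.Wei

open Subgroup Cfsg Cfsg.Lie Cfsg.Agent.H56.Wei Cfsg.Agent.OrdDiv Cfsg.Agent.H436 Cfsg.Agent.H349.KD4 Cfsg.Agent.H563.KG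
  Cfsg.Agent.H56.Exc

/-- all prime divisors of `q⁴ - q² + 1` are prime to 12 -/
theorem coprime_ncl12 {q : ℕ} (hq : 2 ≤ q) : (ncl 12 q).Coprime (Nat.factorial 4) := by
  refine Nat.coprime_of_dvd fun k hk h1 h2 => ?_
  have h3 := prim_of_dvd cls12 (by omega) hk h1
  have h4 : 12 ∣ k - 1 := Nat.dvd_of_mod_eq_zero (mod_of_prim hq (by omega) h3)
  have h5 := hk.two_le
  have h6 := Nat.le_of_dvd (by omega) h4
  have h7 : k ≤ 4 := (Nat.Prime.dvd_factorial hk).1 h2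
  omega

/-- **`³D₄(q)`.** -/
theorem over_td4 {T : Type*} [Group T] [Finite T] {q : ℕ} (hT : IsNamed (.td4 q) T) (x : T)
    (hx : orderOf x = q ^ 4 - q ^ 2 + 1) : Over x (fun _ => False) := by
  intro H hxH hH
  left
  obtain ⟨K, _, _, hK, ⟨e⟩⟩ := hT.real
  obtain ⟨p, f, hp, hf, rfl⟩ := (isPrimePow_nat_iff _).1 hT.cond
  have hq : 2 ≤ p ^ f := hp.two_le.trans (Nat.le_self_pow (by omega) p)
  rw [← ncl12] at hx
  have hcard : Nat.card ↥(twistedD4 K (p ^ f)) = ncl 12 (p ^ f) *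
      ((p ^ f) ^ 12 * ((p ^ f) ^ 2 - 1) * ((p ^ f) ^ 6 - 1) * ((p ^ f) ^ 4 + (p ^ f) ^ 2 + 1)) := by
    rw [card_eq hp hf hK, ncl12]
    show (p ^ f) ^ 12 * (((p ^ f) ^ 2 - 1) * ((p ^ f) ^ 6 - 1) * ((p ^ f) ^ 8 + (p ^ f) ^ 4 + 1)) = _
    have h1 : (p ^ f) ^ 8 + (p ^ f) ^ 4 + 1 = ((p ^ f) ^ 4 - (p ^ f) ^ 2 + 1) * ((p ^ f) ^ 4 + (p ^ f) ^ 2 + 1) := by
      have h2 : (p ^ f) ^ 2 ≤ (p ^ f) ^ 4 := Nat.pow_le_pow_right (by omega) (by norm_num)
      zify [h2]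
      ring
    rw [h1]
    ring
  let M : Subgroup ↥(twistedD4 K (p ^ f)) := H.map e.toMonoidHom
  have hMe : M = H.map e.toMonoidHom := rfl
  have hcM : Nat.card M = Nat.card H := Nat.card_congr (H.equivMapOfInjective _ e.injective).symm.toEquiv
  have hM : M ≠ ⊤ := by
    intro h
    apply hH
    apply Subgroup.eq_top_of_card_eq
    rw [← hcM, h, Subgroup.card_top, Nat.card_congr e.toEquiv]
  have hn : ncl 12 (p ^ f) ∣ Nat.card M := by
    rw [hcM, ← hx, ← Subgroup.orderOf_mk x hxH]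
    exact orderOf_dvd_natCard _
  have hidx : M.index ∣ (p ^ f) ^ 12 * ((p ^ f) ^ 2 - 1) * ((p ^ f) ^ 6 - 1) * ((p ^ f) ^ 4 + (p ^ f) ^ 2 + 1) := by
    obtain ⟨a, ha⟩ := hn
    have h1 := M.card_mul_index
    rw [hcard, ha, mul_assoc] at h1
    have h2 : 0 < ncl 12 (p ^ f) := by have := ncl_gt_eight hq; omega
    exact ⟨a, by rw [mul_comm M.index]; exact (Nat.eq_of_mul_eq_mul_left h2 h1).symm⟩
  have hM2 := (kfull_TD4 Cfsg.Agent.OrdDiv.table (fun _ _ _ _ => Cfsg.Agent.S0000.result) cycFixSolv hp hf hK M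
    (fun r hr hd => ?_)).resolve_left hM
  · rw [hcM, m_eq hq, ← hx] at hM2
    exact le_normalizer_of_card hxH (by norm_num) (by rw [hx]; exact coprime_ncl12 hq) hM2
  · have h1 := hd.trans hidx
    rcases hr.prime.dvd_mul.1 h1 with h1 | h1
    · rcases hr.prime.dvd_mul.1 h1 with h1 | h1
      · rcases hr.prime.dvd_mul.1 h1 with h1 | h1
        · exact hr.not_dvd_pow _ h1
        · exact hr.not_dvd_sub (by norm_num) h1
      · exact hr.not_dvd_sub (by norm_num) h1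
    · refine hr.not_dvd_sub (show ¬ 12 ∣ 6 by norm_num) (h1.trans ⟨(p ^ f) ^ 2 - 1, ?_⟩)
      have h2 : 1 ≤ (p ^ f) ^ 2 := Nat.one_le_pow _ _ (by omega)
      have h3 : 1 ≤ (p ^ f) ^ 6 := Nat.one_le_pow _ _ (by omega)
      zify [h2, h3]
      ring

end Cfsg.Agent.H394.Wei
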